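import Mathlib.GroupTheory.Sylow
import Mathlib.GroupTheory.Subgroup.Centralizer
import Mathlib.GroupTheory.SpecificGroups.Cyclic
import Mathlib.Data.Set.Finite.Lemmas
import Cfsg.Prelude.Def_Transfer

/-!
# Elementary abelian subgroups

Basic API for `Cfsg.IsElementaryAbelian p A` (`A : Subgroup G`, commutative, exponent dividing `p`).
-/

namespace Cfsg.Agent.Lib.PGroups

open Subgroup

variable {G H : Type*} [Group G] [Group H] {p : ℕ} {A B : Subgroup G}

/-- Pointwise form of `IsElementaryAbelian`. -/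
theorem elemAb_iff :
    Cfsg.IsElementaryAbelian p A ↔
      (∀ a ∈ A, ∀ b ∈ A, a * b = b * a) ∧ ∀ a ∈ A, a ^ p = 1 := by
  refine and_congr ⟨fun h a ha b hb => ?_, fun h => ?_⟩ Iff.rfl
  · have := h
    exact setLike_mul_comm ha hb
  · exact ⟨⟨fun a b => Subtype.ext (h a a.2 b b.2)⟩⟩

theorem elemAb_mk (h₁ : ∀ a ∈ A, ∀ b ∈ A, a * b = b * a) (h₂ : ∀ a ∈ A, a ^ p = 1) :
    Cfsg.IsElementaryAbelian p A :=
  elemAb_iff.mpr ⟨h₁, h₂⟩

theorem elemAb_comm (h : Cfsg.IsElementaryAbelian p A) {a b : G} (ha : a ∈ A) (hb : b ∈ A) :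
    a * b = b * a :=
  (elemAb_iff.mp h).1 a ha b hb

theorem elemAb_pow (h : Cfsg.IsElementaryAbelian p A) {a : G} (ha : a ∈ A) : a ^ p = 1 :=
  h.2 a ha

theorem elemAb_mono (h : Cfsg.IsElementaryAbelian p A) (hBA : B ≤ A) :
    Cfsg.IsElementaryAbelian p B :=
  elemAb_mk (fun _ ha _ hb => elemAb_comm h (hBA ha) (hBA hb)) fun _ ha => h.2 _ (hBA ha)

theorem elemAb_bot : Cfsg.IsElementaryAbelian p (⊥ : Subgroup G) :=
  elemAb_mk (by simp [Subgroup.mem_bot]) (by simp [Subgroup.mem_bot])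

theorem elemAb_map (f : G →* H) (h : Cfsg.IsElementaryAbelian p A) :
    Cfsg.IsElementaryAbelian p (A.map f) := by
  refine elemAb_mk ?_ ?_
  · rintro _ ⟨a, ha, rfl⟩ _ ⟨b, hb, rfl⟩
    rw [← map_mul, ← map_mul, elemAb_comm h ha hb]
  · rintro _ ⟨a, ha, rfl⟩
    rw [← map_pow, h.2 a ha, map_one]

theorem elemAb_of_map (f : G →* H) (hf : Function.Injective f)
    (h : Cfsg.IsElementaryAbelian p (A.map f)) : Cfsg.IsElementaryAbelian p A := by
  refine elemAb_mk (fun a ha b hb => hf ?_) fun a ha => hf ?_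
  · rw [map_mul, map_mul]
    exact elemAb_comm h (Subgroup.mem_map_of_mem f ha) (Subgroup.mem_map_of_mem f hb)
  · rw [map_pow, map_one]
    exact elemAb_pow h (Subgroup.mem_map_of_mem f ha)

theorem elemAb_map_iff (f : G →* H) (hf : Function.Injective f) :
    Cfsg.IsElementaryAbelian p (A.map f) ↔ Cfsg.IsElementaryAbelian p A :=
  ⟨elemAb_of_map f hf, elemAb_map f⟩

theorem elemAb_comap {C : Subgroup H} (f : G →* H) (hf : Function.Injective f)
    (h : Cfsg.IsElementaryAbelian p C) : Cfsg.IsElementaryAbelian p (C.comap f) :=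
  elemAb_of_map f hf (elemAb_mono h (Subgroup.map_comap_le f C))

theorem elemAb_subgroupOf (h : Cfsg.IsElementaryAbelian p A) (K : Subgroup G) :
    Cfsg.IsElementaryAbelian p (A.subgroupOf K) :=
  elemAb_comap K.subtype K.subtype_injective h

theorem elemAb_conj (g : G) (h : Cfsg.IsElementaryAbelian p A) :
    Cfsg.IsElementaryAbelian p (A.map (MulAut.conj g).toMonoidHom) :=
  elemAb_map _ h

/-- The subgroup generated by pairwise commuting elements of order dividing `p`. -/
theorem elemAb_closure {s : Set G} (hc : ∀ a ∈ s, ∀ b ∈ s, a * b = b * a)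
    (hp : ∀ a ∈ s, a ^ p = 1) : Cfsg.IsElementaryAbelian p (Subgroup.closure s) := by
  have := Subgroup.isMulCommutative_closure hc
  refine elemAb_mk (fun a ha b hb => setLike_mul_comm ha hb) fun a ha => ?_
  induction ha using Subgroup.closure_induction with
  | mem x hx => exact hp x hx
  | one => exact one_pow p
  | mul x y hx hy ihx ihy =>
      rw [Commute.mul_pow (setLike_mul_comm hx hy), ihx, ihy, one_mul]
  | inv x hx ihx => rw [inv_pow, ihx, inv_one]

theorem elemAb_zpowers {x : G} (hx : x ^ p = 1) :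
    Cfsg.IsElementaryAbelian p (Subgroup.zpowers x) := by
  rw [Subgroup.zpowers_eq_closure]
  exact elemAb_closure (by simp) (by simp [hx])

/-- Join of two elementary abelian subgroups centralising each other. -/
theorem elemAb_sup (hA : Cfsg.IsElementaryAbelian p A) (hB : Cfsg.IsElementaryAbelian p B)
    (hc : ∀ a ∈ A, ∀ b ∈ B, a * b = b * a) : Cfsg.IsElementaryAbelian p (A ⊔ B) := by
  rw [← Subgroup.closure_eq A, ← Subgroup.closure_eq B, ← Subgroup.closure_union]
  refine elemAb_closure ?_ ?_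
  · rintro a (ha | ha) b (hb | hb)
    · exact elemAb_comm hA ha hb
    · exact hc a ha b hb
    · exact (hc b hb a ha).symm
    · exact elemAb_comm hB ha hb
  · rintro a (ha | ha)
    · exact elemAb_pow hA ha
    · exact elemAb_pow hB ha

theorem elemAb_of_card_eq_prime [Fact p.Prime] (h : Nat.card A = p) :
    Cfsg.IsElementaryAbelian p A := by
  have : IsCyclic A := isCyclic_of_prime_card h
  refine elemAb_mk (fun a ha b hb => ?_) fun a ha => ?_
  · have := IsMulCommutative.is_comm.comm (⟨a, ha⟩ : A) ⟨b, hb⟩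
    exact congrArg Subtype.val this
  · have := pow_card_eq_one' (G := A) (x := ⟨a, ha⟩)
    rw [h] at this
    exact congrArg Subtype.val this

theorem elemAb_isPGroup (h : Cfsg.IsElementaryAbelian p A) : IsPGroup p A :=
  fun a => ⟨1, Subtype.ext (by simpa using h.2 a a.2)⟩

theorem elemAb_card_eq_pow [Finite A] [hp : Fact p.Prime] (h : Cfsg.IsElementaryAbelian p A) :
    ∃ k : ℕ, Nat.card A = p ^ k :=
  IsPGroup.iff_card.mp (elemAb_isPGroup h)

theorem elemAb_orderOf [hp : Fact p.Prime] (h : Cfsg.IsElementaryAbelian p A) {a : G}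
    (ha : a ∈ A) (h1 : a ≠ 1) : orderOf a = p :=
  orderOf_eq_prime (elemAb_pow h ha) h1

/-- A cyclic elementary abelian subgroup has order dividing `p`. -/
theorem elemAb_card_dvd_of_isCyclic (h : Cfsg.IsElementaryAbelian p A) [hc : IsCyclic A] :
    Nat.card A ∣ p := by
  obtain ⟨g, hg⟩ := hc.exists_generator
  rw [← orderOf_eq_card_of_forall_mem_zpowers hg, ← Subgroup.orderOf_coe]
  exact orderOf_dvd_of_pow_eq_one (h.2 g g.2)

theorem not_isCyclic_of_elemAb_card [Fact p.Prime] {k : ℕ} (hk : 2 ≤ k)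
    (h : Cfsg.IsElementaryAbelian p A) (hA : Nat.card A = p ^ k) : ¬ IsCyclic A := by
  intro hc
  have hp := (Fact.out : p.Prime).one_lt
  have h1 : p ^ k ≤ p := Nat.le_of_dvd (by omega) (hA ▸ elemAb_card_dvd_of_isCyclic h)
  have h2 : p ^ 2 ≤ p ^ k := Nat.pow_le_pow_right (by omega) hk
  nlinarith

/-- Subgroups of prescribed order inside an elementary abelian subgroup. -/
theorem elemAb_exists_le_card [Finite G] [Fact p.Prime] (h : Cfsg.IsElementaryAbelian p A)
    {k : ℕ} (hk : p ^ k ≤ Nat.card A) :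
    ∃ B : Subgroup G, B ≤ A ∧ Cfsg.IsElementaryAbelian p B ∧ Nat.card B = p ^ k := by
  obtain ⟨m, hm⟩ := elemAb_card_eq_pow h
  have hkm : p ^ k ∣ Nat.card A := by
    rw [hm] at hk ⊢
    exact pow_dvd_pow p ((Nat.pow_le_pow_iff_right (Fact.out : p.Prime).one_lt).mp hk)
  obtain ⟨C, hC⟩ := Sylow.exists_subgroup_card_pow_prime p hkm
  exact ⟨C.map A.subtype, Subgroup.map_subtype_le C,
    elemAb_mono h (Subgroup.map_subtype_le C),
    by rw [Subgroup.card_map_of_injective A.subtype_injective, hC]⟩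

/-- Adjoining a commuting element of order `p` outside `A` multiplies the order by at least `p`. -/
theorem card_mul_le_card_of_mem [Finite G] [Fact p.Prime] (hAB : A ≤ B) (hB : IsPGroup p B)
    {x : G} (hxB : x ∈ B) (hxA : x ∉ A) : Nat.card A * p ≤ Nat.card B := by
  obtain ⟨n, hn⟩ := IsPGroup.iff_card.mp hB
  have hd : Nat.card A ∣ p ^ n := hn ▸ Subgroup.card_dvd_of_le hAB
  obtain ⟨m, hmn, hm⟩ := (Nat.dvd_prime_pow (Fact.out : p.Prime)).mp hd
  have hlt : m < n := by
    rcases Nat.lt_or_eq_of_le hmn with h | h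
    · exact h
    · exact absurd ((Subgroup.eq_of_le_of_card_ge hAB (by rw [hn, hm, h])) ▸ hxB) hxA
  rw [hm, hn, ← pow_succ]
  exact Nat.pow_le_pow_right (Fact.out : p.Prime).pos hlt

variable (p G)

/-- Elementary abelian subgroups of largest order exist. -/
theorem maxElemAb_nonempty [Finite G] : (Cfsg.maxElementaryAbelianSubgroups p G).Nonempty := by
  obtain ⟨A, hA, hmax⟩ := Set.exists_max_image {A : Subgroup G | Cfsg.IsElementaryAbelian p A}
    (fun A => Nat.card A) (Set.toFinite _) ⟨⊥, elemAb_bot⟩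
  exact ⟨A, hA, fun B hB => hmax B hB⟩

variable {p G}

theorem maxElemAb_card_eq {A B : Subgroup G} (hA : A ∈ Cfsg.maxElementaryAbelianSubgroups p G)
    (hB : B ∈ Cfsg.maxElementaryAbelianSubgroups p G) : Nat.card A = Nat.card B :=
  le_antisymm (hB.2 A hA.1) (hA.2 B hB.1)

/-- A commuting element of order `p` lies in every elementary abelian subgroup of largest order. -/
theorem mem_maxElemAb_of_commute [Finite G] [Fact p.Prime]
    (hA : A ∈ Cfsg.maxElementaryAbelianSubgroups p G) {x : G} (hx : x ^ p = 1)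
    (hc : ∀ a ∈ A, a * x = x * a) : x ∈ A := by
  by_contra hxA
  have hE : Cfsg.IsElementaryAbelian p (A ⊔ Subgroup.zpowers x) := by
    refine elemAb_sup hA.1 (elemAb_zpowers hx) fun a ha b hb => ?_
    obtain ⟨k, rfl⟩ := hb
    exact (Commute.zpow_right (hc a ha) k)
  have h1 := card_mul_le_card_of_mem (le_sup_left : A ≤ A ⊔ Subgroup.zpowers x)
    (elemAb_isPGroup hE) (le_sup_right (a := A) (Subgroup.mem_zpowers x)) hxA
  have h2 := hA.2 _ hE
  have h3 := (Fact.out : p.Prime).one_lt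
  have h4 : 0 < Nat.card A := Nat.card_pos
  nlinarith

end Cfsg.Agent.Lib.PGroups
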