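import Mathlib.GroupTheory.Sylow
import Mathlib.GroupTheory.GroupAction.ConjAct
import Mathlib.GroupTheory.QuotientGroup.Basic
import Cfsg.Prelude.Def_Transfer
import Cfsg.Prelude.Def_PLocal
import Cfsg.Agent.Lib.PGroups.ElemAb

/-!
# `Ω₁` and normal subgroups of `p`-groups
-/

namespace Cfsg.Agent.Lib.PGroups

open Subgroup

variable {G H : Type*} [Group G] [Group H] {p : ℕ} {A B K : Subgroup G}

theorem omegaOne_le (p : ℕ) (K : Subgroup G) : Cfsg.omegaOne p K ≤ K :=
  (Subgroup.closure_le K).mpr fun _ hx => hx.1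

theorem mem_omegaOne_of_pow {x : G} (hx : x ∈ K) (hxp : x ^ p = 1) : x ∈ Cfsg.omegaOne p K :=
  Subgroup.subset_closure ⟨hx, hxp⟩

theorem omegaOne_mono (h : A ≤ B) : Cfsg.omegaOne p A ≤ Cfsg.omegaOne p B :=
  Subgroup.closure_mono fun _ hx => ⟨h hx.1, hx.2⟩

theorem map_omegaOne_of_injective (f : G →* H) (hf : Function.Injective f) :
    (Cfsg.omegaOne p K).map f = Cfsg.omegaOne p (K.map f) := by
  rw [Cfsg.omegaOne, Cfsg.omegaOne, MonoidHom.map_closure]
  congr 1
  ext y
  constructor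
  · rintro ⟨x, ⟨hx, hxp⟩, rfl⟩
    exact ⟨Subgroup.mem_map_of_mem f hx, by rw [← map_pow, hxp, map_one]⟩
  · rintro ⟨⟨x, hx, rfl⟩, hy⟩
    exact ⟨x, ⟨hx, hf (by rw [map_pow, hy, map_one])⟩, rfl⟩

instance omegaOne_characteristic [hK : K.Characteristic] :
    (Cfsg.omegaOne p K).Characteristic := by
  rw [Subgroup.characteristic_iff_map_eq]
  intro φ
  rw [map_omegaOne_of_injective _ φ.injective, Subgroup.characteristic_iff_map_eq.mp hK φ]

theorem omegaOne_normal [hK : K.Normal] : (Cfsg.omegaOne p K).Normal := by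
  refine ⟨fun x hx g => ?_⟩
  have h := Subgroup.mem_map_of_mem (MulAut.conj g).toMonoidHom hx
  rw [map_omegaOne_of_injective _ (MulAut.conj g).injective] at h
  refine omegaOne_mono ?_ h
  rintro _ ⟨y, hy, rfl⟩
  exact hK.conj_mem y hy g

theorem elemAb_omegaOne (hc : IsMulCommutative K) :
    Cfsg.IsElementaryAbelian p (Cfsg.omegaOne p K) :=
  elemAb_closure (fun a ha b hb => by
    have := hc
    exact setLike_mul_comm ha.1 hb.1) fun _ ha => ha.2

theorem mem_omegaOne_iff_of_comm (hc : IsMulCommutative K) {x : G} :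
    x ∈ Cfsg.omegaOne p K ↔ x ∈ K ∧ x ^ p = 1 :=
  ⟨fun h => ⟨omegaOne_le p K h, elemAb_pow (elemAb_omegaOne hc) h⟩,
    fun h => mem_omegaOne_of_pow h.1 h.2⟩

theorem exists_orderOf_eq_prime_of_ne_bot [Finite G] [Fact p.Prime] (hK : IsPGroup p K)
    (hne : K ≠ ⊥) : ∃ x ∈ K, orderOf x = p := by
  have : Nontrivial K := (Subgroup.nontrivial_iff_ne_bot K).mpr hne
  obtain ⟨n, hn, hc⟩ := hK.nontrivial_iff_card.mp this
  obtain ⟨x, hx⟩ := exists_prime_orderOf_dvd_card' (G := K) p (hc ▸ dvd_pow_self p (by omega))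
  exact ⟨x, x.2, by rw [Subgroup.orderOf_coe, hx]⟩

theorem omegaOne_ne_bot [Finite G] [Fact p.Prime] (hK : IsPGroup p K) (hne : K ≠ ⊥) :
    Cfsg.omegaOne p K ≠ ⊥ := by
  intro h
  obtain ⟨x, hxK, hx⟩ := exists_orderOf_eq_prime_of_ne_bot hK hne
  have hm : x ∈ Cfsg.omegaOne p K := mem_omegaOne_of_pow hxK (hx ▸ pow_orderOf_eq_one x)
  rw [h, Subgroup.mem_bot] at hm
  rw [hm, orderOf_one] at hx
  exact (Fact.out : p.Prime).one_lt.ne hx

/-- A non-trivial normal subgroup of a finite `p`-group meets the centre non-trivially. -/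
theorem normal_inf_center_ne_bot [Finite G] [Fact p.Prime] (hG : IsPGroup p G) (N : Subgroup G)
    [hN : N.Normal] (hne : N ≠ ⊥) : N ⊓ Subgroup.center G ≠ ⊥ := by
  have hG' : IsPGroup p (ConjAct G) := hG.of_equiv ConjAct.toConjAct
  have : Nontrivial N := (Subgroup.nontrivial_iff_ne_bot N).mpr hne
  obtain ⟨n, hn, hc⟩ := (hG.to_subgroup N).nontrivial_iff_card.mp this
  have h1 : (1 : N) ∈ MulAction.fixedPoints (ConjAct G) N := fun g => smul_one g
  obtain ⟨b, hb, hb1⟩ := hG'.exists_fixed_point_of_prime_dvd_card_of_fixed_point (α := N)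
    (hc ▸ dvd_pow_self p (by omega)) h1
  intro h
  have hmem : (b : G) ∈ N ⊓ Subgroup.center G := by
    refine ⟨b.2, Subgroup.mem_center_iff.mpr fun g => ?_⟩
    have := congrArg (Subtype.val) (hb (ConjAct.toConjAct g))
    simp only [ConjAct.Subgroup.val_conj_smul, ConjAct.toConjAct_smul] at this
    calc g * (b : G) = g * b * g⁻¹ * g := by group
      _ = b * g := by rw [this]
  rw [h, Subgroup.mem_bot] at hmem
  exact hb1 (Subtype.ext hmem.symm)

/-- A normal subgroup of order `p` of a finite `p`-group is central. -/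
theorem le_center_of_normal_card_prime [Finite G] [Fact p.Prime] (hG : IsPGroup p G)
    (N : Subgroup G) [N.Normal] (hN : Nat.card N = p) : N ≤ Subgroup.center G := by
  have hne : N ≠ ⊥ := by
    intro h
    rw [h, Subgroup.card_bot] at hN
    exact (Fact.out : p.Prime).one_lt.ne hN
  have h := normal_inf_center_ne_bot hG N hne
  have hd : Nat.card (N ⊓ Subgroup.center G : Subgroup G) ∣ p :=
    hN ▸ Subgroup.card_dvd_of_le inf_le_left
  rcases (Nat.dvd_prime (Fact.out : p.Prime)).mp hd with h1 | h1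
  · exact absurd (Subgroup.eq_bot_of_card_eq _ h1) h
  · have := Subgroup.eq_of_le_of_card_ge (inf_le_left : N ⊓ Subgroup.center G ≤ N)
      (by rw [h1, hN])
    exact this ▸ inf_le_right

/-- A non-trivial normal subgroup of a finite `p`-group contains a central subgroup of order `p`. -/
theorem exists_central_card_prime [Finite G] [Fact p.Prime] (hG : IsPGroup p G) (N : Subgroup G)
    [N.Normal] (hne : N ≠ ⊥) :
    ∃ Z : Subgroup G, Z ≤ N ∧ Z ≤ Subgroup.center G ∧ Z.Normal ∧ Nat.card Z = p := by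
  obtain ⟨z, hz, hzo⟩ := exists_orderOf_eq_prime_of_ne_bot (hG.to_subgroup _)
    (normal_inf_center_ne_bot hG N hne)
  have hzc : Subgroup.zpowers z ≤ Subgroup.center G := Subgroup.zpowers_le.mpr hz.2
  refine ⟨Subgroup.zpowers z, Subgroup.zpowers_le.mpr hz.1, hzc, ⟨fun x hx g => ?_⟩,
    by rw [Nat.card_zpowers, hzo]⟩
  rwa [(Subgroup.mem_center_iff.mp (hzc hx) g), mul_inv_cancel_right]

/-- In a finite `p`-group, a normal subgroup `≠ ⊥` contains a normal subgroup of index `p` in it. -/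
theorem exists_normal_lt_index_prime [Finite G] [Fact p.Prime] (hG : IsPGroup p G) (N : Subgroup G)
    [hN : N.Normal] (hne : N ≠ ⊥) :
    ∃ M : Subgroup G, M.Normal ∧ M ≤ N ∧ Nat.card M * p = Nat.card N := by
  obtain ⟨M, ⟨hMn, hMN⟩, hmax⟩ :=
    (Set.toFinite {M : Subgroup G | M.Normal ∧ M < N}).exists_maximal
      ⟨⊥, Subgroup.normal_bot, bot_lt_iff_ne_bot.mpr hne⟩
  have := hMn
  let f := QuotientGroup.mk' M
  have hNn : (N.map f).Normal := hN.map f (QuotientGroup.mk'_surjective M)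
  have hNne : N.map f ≠ ⊥ := by
    rw [Ne, Subgroup.map_eq_bot_iff, QuotientGroup.ker_mk']
    exact not_le_of_gt hMN
  obtain ⟨Z, hZN, -, hZn, hZ⟩ := exists_central_card_prime (hG.to_quotient M) (N.map f) hNne
  have hMZ : M ≤ Z.comap f := by
    intro x hx
    have h0 : f x = 1 := (QuotientGroup.eq_one_iff x).mpr hx
    rw [Subgroup.mem_comap, h0]
    exact Z.one_mem
  have hcard : Nat.card (Z.comap f) = Nat.card M * p := by
    have h1 : Nat.card (Z.comap f) = Nat.card M * Nat.card Z :=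
      QuotientGroup.card_preimage_mk M (Z : Set (G ⧸ M))
    rw [h1, hZ]
  have hle : Z.comap f ≤ N := by
    intro x hx
    obtain ⟨y, hy, hxy⟩ := hZN hx
    have : y⁻¹ * x ∈ M := (QuotientGroup.eq).mp hxy
    simpa using N.mul_mem hy (hMN.le this)
  refine ⟨M, hMn, hMN.le, ?_⟩
  by_contra hne'
  have hlt : Z.comap f < N := by
    refine lt_of_le_of_ne hle fun he => hne' ?_
    rw [← hcard, he]
  have h2 : Z.comap f = M := le_antisymm (hmax ⟨hZn.comap f, hlt⟩ hMZ) hMZ
  rw [h2] at hcard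
  have : 0 < Nat.card M := Nat.card_pos
  have := (Fact.out : p.Prime).one_lt
  nlinarith

/-- A normal subgroup of order `p ^ n` of a finite `p`-group contains normal subgroups of every
order `p ^ k`, `k ≤ n`. -/
theorem exists_normal_le_card [Finite G] [Fact p.Prime] (hG : IsPGroup p G) {k : ℕ}
    (N : Subgroup G) [hN : N.Normal] (hk : p ^ k ≤ Nat.card N) :
    ∃ M : Subgroup G, M.Normal ∧ M ≤ N ∧ Nat.card M = p ^ k := by
  obtain ⟨M, ⟨hMn, hMN, hMk⟩, hmin⟩ :=
    (Set.toFinite {M : Subgroup G | M.Normal ∧ M ≤ N ∧ p ^ k ≤ Nat.card M}).exists_minimal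
      ⟨N, hN, le_rfl, hk⟩
  refine ⟨M, hMn, hMN, le_antisymm ?_ hMk⟩
  by_contra hlt
  have h1 : 1 ≤ p ^ k := Nat.one_le_pow _ _ (Fact.out : p.Prime).pos
  have hne : M ≠ ⊥ := by
    rintro rfl
    simp only [Subgroup.card_bot] at hlt
    omega
  have := hMn
  obtain ⟨L, hLn, hLM, hLc⟩ := exists_normal_lt_index_prime hG M hne
  obtain ⟨m, hm⟩ := IsPGroup.iff_card.mp (hG.to_subgroup M)
  obtain ⟨l, hl⟩ := IsPGroup.iff_card.mp (hG.to_subgroup L)
  have hp := (Fact.out : p.Prime).one_lt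
  have hlm : l + 1 = m := Nat.pow_right_injective hp (show p ^ (l + 1) = p ^ m by rw [← hm, ← hLc, hl, pow_succ])
  have hkm : k < m := (Nat.pow_lt_pow_iff_right hp).mp (by omega)
  have hLk : p ^ k ≤ Nat.card L := hl ▸ Nat.pow_le_pow_right (by omega) (by omega)
  have hML : M ≤ L := hmin ⟨hLn, hLM.trans hMN, hLk⟩ hLM
  have := Subgroup.card_le_of_le hML
  have : 0 < Nat.card L := Nat.card_pos
  nlinarith

end Cfsg.Agent.Lib.PGroups
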