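import Mathlib.GroupTheory.Sylow
import Mathlib.GroupTheory.Nilpotent
import Cfsg.Prelude.Def_Transfer
import Cfsg.Agent.Lib.PGroups.ElemAb
import Cfsg.Agent.Lib.PGroups.Omega

/-!
# Maximal normal abelian subgroups of `p`-groups, and Alperin's lemma on them
-/

namespace Cfsg.Agent.Lib.PGroups

open Subgroup
open scoped commutatorElement

variable {G : Type*} [Group G] {p : ℕ} {A : Subgroup G}

/-- Maximal normal abelian subgroups exist above any normal abelian subgroup. -/
theorem exists_maximal_normal_abelian [Finite G] (A : Subgroup G) [hn : A.Normal]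
    (hA : IsMulCommutative A) :
    ∃ B : Subgroup G, A ≤ B ∧ B.Normal ∧ IsMulCommutative B ∧
      ∀ C : Subgroup G, C.Normal → IsMulCommutative C → B ≤ C → C = B := by
  obtain ⟨B, ⟨hAB, hBn, hB⟩, hmax⟩ :=
    (Set.toFinite {B : Subgroup G | A ≤ B ∧ B.Normal ∧ IsMulCommutative B}).exists_maximal
      ⟨A, le_rfl, hn, hA⟩
  exact ⟨B, hAB, hBn, hB,
    fun C hCn hC hBC => le_antisymm (hmax ⟨hAB.trans hBC, hCn, hC⟩ hBC) hBC⟩

theorem isMulCommutative_sup_zpowers (hA : IsMulCommutative A) {x : G}
    (hx : x ∈ Subgroup.centralizer (A : Set G)) :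
    IsMulCommutative (A ⊔ Subgroup.zpowers x : Subgroup G) := by
  rw [Subgroup.zpowers_eq_closure, ← Subgroup.closure_eq A, ← Subgroup.closure_union]
  refine Subgroup.isMulCommutative_closure ?_
  have := hA
  rintro a (ha | ha) b (hb | hb)
  · exact setLike_mul_comm ha hb
  · rw [Set.mem_singleton_iff.mp hb]
    exact hx a ha
  · rw [Set.mem_singleton_iff.mp ha]
    exact (hx b hb).symm
  · rw [Set.mem_singleton_iff.mp ha, Set.mem_singleton_iff.mp hb]

/-- Adjoining `x` to a normal subgroup `A` gives a normal subgroup when `x` is central modulo `A`. -/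
theorem normal_sup_zpowers [hn : A.Normal] {x : G} (hx : ∀ g : G, ⁅g, x⁆ ∈ A) :
    (A ⊔ Subgroup.zpowers x).Normal := by
  rw [Subgroup.zpowers_eq_closure]
  have hB : A ⊔ Subgroup.closure {x} = Subgroup.closure ((A : Set G) ∪ {x}) := by
    rw [Subgroup.closure_union, Subgroup.closure_eq]
  refine ⟨fun y hy g => ?_⟩
  rw [hB] at hy
  induction hy using Subgroup.closure_induction with
  | mem y hy =>
      rcases hy with hy | hy
      · exact le_sup_left (b := Subgroup.closure {x}) (hn.conj_mem y hy g)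
      · rw [Set.mem_singleton_iff.mp hy,
          show g * x * g⁻¹ = ⁅g, x⁆ * x by rw [commutatorElement_def]; group]
        exact Subgroup.mul_mem _ (le_sup_left (b := Subgroup.closure {x}) (hx g))
          (le_sup_right (a := A) (Subgroup.mem_closure_singleton_self x))
  | one => simp
  | mul a b _ _ iha ihb =>
      rw [show g * (a * b) * g⁻¹ = (g * a * g⁻¹) * (g * b * g⁻¹) by group]
      exact Subgroup.mul_mem _ iha ihb
  | inv a _ iha =>
      rw [show g * a⁻¹ * g⁻¹ = (g * a * g⁻¹)⁻¹ by group]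
      exact Subgroup.inv_mem _ iha

/-- A maximal normal abelian subgroup of a finite `p`-group is its own centraliser. -/
theorem centralizer_eq_self_of_maximal [Finite G] [Fact p.Prime] (hG : IsPGroup p G) [hn : A.Normal]
    (hA : IsMulCommutative A)
    (hmax : ∀ B : Subgroup G, B.Normal → IsMulCommutative B → A ≤ B → B = A) :
    Subgroup.centralizer (A : Set G) = A := by
  have hAC : A ≤ Subgroup.centralizer (A : Set G) :=
    Subgroup.le_centralizer_iff_isMulCommutative.mpr hA
  refine le_antisymm ?_ hAC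
  by_contra hle
  let f := QuotientGroup.mk' A
  have hCn : ((Subgroup.centralizer (A : Set G)).map f).Normal :=
    (inferInstance : (Subgroup.centralizer (A : Set G)).Normal).map f
      (QuotientGroup.mk'_surjective A)
  have hne : (Subgroup.centralizer (A : Set G)).map f ≠ ⊥ := by
    rw [Ne, Subgroup.map_eq_bot_iff, QuotientGroup.ker_mk']
    exact hle
  obtain ⟨Z, hZC, hZc, -, hZ⟩ := exists_central_card_prime (hG.to_quotient A) _ hne
  have hZne : Z ≠ ⊥ := by
    rintro rfl
    rw [Subgroup.card_bot] at hZ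
    exact (Fact.out : p.Prime).one_lt.ne hZ
  obtain ⟨z, hz, hz1⟩ := Z.bot_or_exists_ne_one.resolve_left hZne
  obtain ⟨x, hxC, rfl⟩ := hZC hz
  have hc : ∀ g : G, ⁅g, x⁆ ∈ A := fun g => by
    have h : f ⁅g, x⁆ = 1 := by
      rw [map_commutatorElement, commutatorElement_eq_one_iff_mul_comm]
      exact Subgroup.mem_center_iff.mp (hZc hz) (f g)
    exact (QuotientGroup.eq_one_iff _).mp h
  have hB := hmax _ (normal_sup_zpowers hc) (isMulCommutative_sup_zpowers hA hxC) le_sup_left
  exact hz1 ((QuotientGroup.eq_one_iff x).mpr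
    (hB.le (le_sup_right (a := A) (Subgroup.mem_zpowers x))))

/-- Powers of a product when the commutator is central to both factors. -/
theorem mul_pow_of_central_commutator (x y : G) (hx : Commute x ⁅y, x⁆) (hy : Commute y ⁅y, x⁆)
    (n : ℕ) : (x * y) ^ n = x ^ n * y ^ n * ⁅y, x⁆ ^ n.choose 2 := by
  set c := ⁅y, x⁆ with hc
  have hyx : y * x = x * y * c := by
    have h : y * x = c * (x * y) := by rw [hc, commutatorElement_def]; group
    rw [h]
    exact (Commute.mul_left hx hy).eq.symm
  have key : ∀ k : ℕ, y ^ k * x = x * y ^ k * c ^ k := by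
    intro k
    induction k with
    | zero => simp
    | succ k ih =>
        calc y ^ (k + 1) * x = y ^ k * (y * x) := by rw [pow_succ, mul_assoc]
          _ = (y ^ k * x) * (y * c) := by rw [hyx]; simp only [mul_assoc]
          _ = x * y ^ k * c ^ k * (y * c) := by rw [ih]
          _ = x * y ^ k * (y * c ^ (k + 1)) := by
              rw [mul_assoc (x * y ^ k), ← mul_assoc (c ^ k), ← (hy.pow_right k).eq,
                mul_assoc y, ← pow_succ]
          _ = x * y ^ (k + 1) * c ^ (k + 1) := by rw [pow_succ y]; simp only [mul_assoc]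
  induction n with
  | zero => simp
  | succ k ih =>
      have hch : (k + 1).choose 2 = k.choose 2 + k := by
        rw [Nat.choose_succ_succ' k 1, Nat.choose_one_right, add_comm]
      have hcxy : c ^ k.choose 2 * (x * y) = x * y * c ^ k.choose 2 :=
        ((Commute.mul_left hx hy).pow_right _).eq.symm
      calc (x * y) ^ (k + 1) = x ^ k * y ^ k * c ^ k.choose 2 * (x * y) := by rw [pow_succ, ih]
        _ = x ^ k * (y ^ k * x) * y * c ^ k.choose 2 := by
            rw [mul_assoc (x ^ k * y ^ k), hcxy]; simp only [mul_assoc]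
        _ = x ^ k * (x * y ^ k * c ^ k) * y * c ^ k.choose 2 := by rw [key]
        _ = x ^ k * x * y ^ k * (y * c ^ k) * c ^ k.choose 2 := by
            rw [(hy.pow_right k).eq]; simp only [mul_assoc]
        _ = x ^ (k + 1) * y ^ (k + 1) * (c ^ k * c ^ k.choose 2) := by
            simp only [pow_succ, mul_assoc]
        _ = _ := by rw [← pow_add, hch, add_comm (k.choose 2)]

theorem commutatorElement_pow_left_of_central (x y : G) (hx : Commute x ⁅x, y⁆) (n : ℕ) :
    ⁅x ^ n, y⁆ = ⁅x, y⁆ ^ n := by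
  induction n with
  | zero => simp
  | succ k ih =>
      have h : ⁅x ^ (k + 1), y⁆ = x * ⁅x ^ k, y⁆ * x⁻¹ * ⁅x, y⁆ := by
        simp only [commutatorElement_def, pow_succ']
        group
      rw [h, ih, (hx.pow_right k).eq, mul_inv_cancel_right, pow_succ]

/-- `p ∣ C(p ^ n, 2)` unless `p = 2` and `n = 1`. -/
theorem prime_dvd_choose_two [Fact p.Prime] {n : ℕ} (hn : p ^ n ≠ 2) (hn0 : 1 ≤ n) :
    p ∣ (p ^ n).choose 2 := by
  have hp : p.Prime := Fact.out
  rw [Nat.choose_two_right]
  rcases hp.eq_two_or_odd with h2 | hodd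
  · subst h2
    have hn2 : 2 ≤ n := by
      rcases Nat.lt_or_ge n 2 with h | h
      · obtain rfl : n = 1 := by omega
        exact absurd (by norm_num) hn
      · exact h
    obtain ⟨m, rfl⟩ : ∃ m, n = m + 2 := ⟨n - 2, by omega⟩
    have h4 : 2 ^ (m + 2) * (2 ^ (m + 2) - 1) = 2 * (2 * (2 ^ m * (2 ^ (m + 2) - 1))) := by
      rw [show (2 : ℕ) ^ (m + 2) = 4 * 2 ^ m by ring]
      ring
    rw [h4, Nat.mul_div_cancel_left _ two_pos]
    exact Dvd.intro _ rfl
  · have hd : 2 ∣ p ^ n - 1 := by
      have hm : p ^ n % 2 = 1 := by simp [Nat.pow_mod, hodd]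
      omega
    rw [Nat.mul_div_assoc _ hd]
    exact Dvd.dvd.mul_right (dvd_pow_self p (by omega)) _

/-- **Alperin's lemma.** If `A` is maximal among the normal abelian subgroups of exponent dividing
`p ^ n ≠ 2` of the finite `p`-group `G`, then `A` contains the elements of `C_G(A)` of order
dividing `p ^ n`. -/
theorem mem_of_maximal_exponent [Finite G] [Fact p.Prime] (hG : IsPGroup p G) (n : ℕ)
    (hn : p ^ n ≠ 2) [hN : A.Normal] (hA : IsMulCommutative A)
    (hAe : ∀ a ∈ A, a ^ p ^ n = 1)
    (hmax : ∀ B : Subgroup G, B.Normal → IsMulCommutative B → (∀ b ∈ B, b ^ p ^ n = 1) →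
      A ≤ B → B = A)
    {x : G} (hx : x ∈ Subgroup.centralizer (A : Set G)) (hxn : x ^ p ^ n = 1) : x ∈ A := by
  rcases Nat.eq_zero_or_pos n with rfl | hn0
  · rw [pow_zero, pow_one] at hxn
    exact hxn ▸ A.one_mem
  have := hG.isNilpotent
  have hp : p.Prime := Fact.out
  let L : ℕ → Subgroup G :=
    fun i => (Subgroup.upperCentralSeries (G ⧸ A) i).comap (QuotientGroup.mk' A)
  have hL0 : L 0 = A := by
    simp [L, Subgroup.upperCentralSeries_zero, MonoidHom.comap_bot, QuotientGroup.ker_mk']
  have hLsucc : ∀ i y, y ∈ L (i + 1) → ∀ g, ⁅y, g⁆ ∈ L i := by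
    intro i y hy g
    have := (Subgroup.mem_upperCentralSeries_succ_iff.mp hy) (QuotientGroup.mk' A g)
    simpa [L, commutatorElement_def, mul_assoc] using this
  have hLn : ∀ i, (L i).Normal := fun i =>
    (inferInstance : (Subgroup.upperCentralSeries (G ⧸ A) i).Normal).comap _
  obtain ⟨m, hm⟩ : ∃ m, x ∈ L m := by
    obtain ⟨m, hm⟩ := (Group.IsNilpotent.nilpotent (G ⧸ A))
    exact ⟨m, by simp [L, hm]⟩
  let C : Subgroup G := Subgroup.centralizer (A : Set G)
  have hAZ : ∀ a ∈ A, ∀ y ∈ C, Commute y a := fun a ha y hy => (hy a ha).symm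
  by_contra hxA
  obtain ⟨j, ⟨y, ⟨hyj, hyC, hyn, hyA⟩⟩, hjmin⟩ :
      ∃ j, (∃ y, y ∈ L j ∧ y ∈ C ∧ y ^ p ^ n = 1 ∧ y ∉ A) ∧
        ∀ i < j, ∀ y, y ∈ L i → y ∈ C → y ^ p ^ n = 1 → y ∈ A := by
    classical
    have hex : ∃ j, ∃ y, y ∈ L j ∧ y ∈ C ∧ y ^ p ^ n = 1 ∧ y ∉ A := ⟨m, x, hm, hx, hxn, hxA⟩
    refine ⟨Nat.find hex, Nat.find_spec hex, fun i hi z hz hzC hzn => ?_⟩
    by_contra hzA
    exact Nat.find_min hex hi ⟨z, hz, hzC, hzn, hzA⟩
  -- one may assume `z ^ p ∈ A`
  obtain ⟨z, hzj, hzC, hzn, hzA, hzp⟩ :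
      ∃ z, z ∈ L j ∧ z ∈ C ∧ z ^ p ^ n = 1 ∧ z ∉ A ∧ z ^ p ∈ A := by
    classical
    have hex : ∃ k, y ^ p ^ k ∈ A := ⟨n, by rw [hyn]; exact A.one_mem⟩
    obtain ⟨k, hk⟩ : ∃ k, Nat.find hex = k + 1 := by
      rcases Nat.eq_zero_or_pos (Nat.find hex) with h0 | h0
      · exfalso
        have := Nat.find_spec hex
        rw [h0, pow_zero, pow_one] at this
        exact hyA this
      · exact ⟨_, (Nat.succ_pred_eq_of_pos h0).symm⟩
    refine ⟨y ^ p ^ k, (L j).pow_mem hyj _, C.pow_mem hyC _, ?_, Nat.find_min hex (by omega), ?_⟩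
    · rw [← pow_mul, mul_comm, pow_mul, hyn, one_pow]
    · rw [← pow_mul, ← pow_succ, ← hk]
      exact Nat.find_spec hex
  have hj0 : j ≠ 0 := by
    rintro rfl
    exact hzA (hL0.le hzj)
  -- a product of `z⁻¹` and a conjugate of `z` with commutator in `A` has exponent `p ^ n`
  have hexp : ∀ g : G, ⁅⁅z, g⁆, z⁆ ∈ A → ⁅z, g⁆ ∈ C → ⁅z, g⁆ ^ p ^ n = 1 := by
    intro g hzg hgC
    set w := g * z⁻¹ * g⁻¹ with hw
    have hwC : w ∈ C := (inferInstance : C.Normal).conj_mem _ (C.inv_mem hzC) g
    have hu : ⁅z, g⁆ = z * w := by rw [hw, commutatorElement_def]; group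
    have hcA : ⁅w, z⁆ ∈ A := by
      have : ⁅w, z⁆ = z⁻¹ * ⁅⁅z, g⁆, z⁆ * z⁻¹⁻¹ := by
        simp only [hw, commutatorElement_def]; group
      rw [this]
      exact hN.conj_mem _ hzg z⁻¹
    have hc1 : ⁅z, w⁆ ^ p = 1 := by
      have hcA' : ⁅z, w⁆ ∈ A := by rw [← commutatorElement_inv]; exact A.inv_mem hcA
      rw [← commutatorElement_pow_left_of_central z w (hAZ _ hcA' z hzC),
        commutatorElement_eq_one_iff_mul_comm]
      exact ((hAZ _ hzp w hwC).symm).eq
    have hc2 : ⁅w, z⁆ ^ p = 1 := by rw [← commutatorElement_inv, inv_pow, hc1, inv_one]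
    have hwn : w ^ p ^ n = 1 := by rw [hw, conj_pow, inv_pow, hzn]; simp
    obtain ⟨t, ht⟩ := prime_dvd_choose_two hn hn0
    rw [hu, mul_pow_of_central_commutator z w (hAZ _ hcA z hzC) (hAZ _ hcA w hwC), hzn, hwn, ht,
      pow_mul, hc2]
    simp
  have hrec : ∀ i, i < j → ∀ u, u ∈ L i → u ∈ C → ⁅z, u⁆ ∈ A := by
    intro i
    induction i with
    | zero =>
        intro _ u hu _
        have : ⁅z, u⁆ = 1 :=
          commutatorElement_eq_one_iff_mul_comm.mpr (hAZ u (hL0.le hu) z hzC).eq
        rw [this]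
        exact A.one_mem
    | succ i ih =>
        intro hij u hu huC
        have h1 : ⁅z, u⁆ ∈ L i := by
          rw [← commutatorElement_inv]
          exact (L i).inv_mem (hLsucc i u hu z)
        have h2 : ⁅z, u⁆ ∈ C := by
          rw [commutatorElement_def]
          exact C.mul_mem (C.mul_mem (C.mul_mem hzC huC) (C.inv_mem hzC)) (C.inv_mem huC)
        have h3 : ⁅⁅z, u⁆, z⁆ ∈ A := by
          rw [← commutatorElement_inv]
          exact A.inv_mem (ih (by omega) _ h1 h2)
        exact hjmin i (by omega) _ h1 h2 (hexp u h3 h2)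
  have hzg : ∀ g : G, ⁅g, z⁆ ∈ A := by
    intro g
    obtain ⟨i, rfl⟩ : ∃ i, j = i + 1 := ⟨j - 1, by omega⟩
    have h1 : ⁅z, g⁆ ∈ L i := hLsucc i z hzj g
    have h2 : ⁅z, g⁆ ∈ C := by
      have : ⁅z, g⁆ = z * (g * z⁻¹ * g⁻¹) := by rw [commutatorElement_def]; group
      rw [this]
      exact C.mul_mem hzC ((inferInstance : C.Normal).conj_mem _ (C.inv_mem hzC) g)
    have h3 : ⁅⁅z, g⁆, z⁆ ∈ A := by
      rw [← commutatorElement_inv]
      exact A.inv_mem (hrec i (by omega) _ h1 h2)
    rw [← commutatorElement_inv]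
    exact A.inv_mem (hjmin i (by omega) _ h1 h2 (hexp g h3 h2))
  have hB := isMulCommutative_sup_zpowers hA hzC
  have hBe : ∀ b ∈ A ⊔ Subgroup.zpowers z, b ^ p ^ n = 1 := by
    intro b hb
    obtain ⟨a, ha, c, ⟨k, rfl⟩, rfl⟩ := Subgroup.mem_sup_of_normal_left.mp hb
    have : Commute a (z ^ k) := ((hAZ a ha z hzC).zpow_left k).symm
    rw [this.mul_pow, hAe a ha, one_mul, ← zpow_natCast, ← zpow_mul, mul_comm, zpow_mul,
      zpow_natCast, hzn, one_zpow]
  have := hmax _ (normal_sup_zpowers hzg) hB hBe le_sup_left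
  exact hzA (this.le (le_sup_right (a := A) (Subgroup.mem_zpowers z)))

/-- A normal subgroup of order `p ^ a` of a finite `p`-group has centraliser of index at most
`p ^ C(a, 2)`. -/
theorem index_centralizer_le [Finite G] [Fact p.Prime] (hG : IsPGroup p G) :
    ∀ (a : ℕ) (N : Subgroup G), N.Normal → Nat.card N = p ^ a →
      (Subgroup.centralizer (N : Set G)).index ≤ p ^ a.choose 2 := by
  intro a
  induction a with
  | zero =>
      intro N _ hN
      obtain rfl : N = ⊥ := Subgroup.eq_bot_of_card_eq N (by simpa using hN)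
      have : Subgroup.centralizer ((⊥ : Subgroup G) : Set G) = ⊤ :=
        eq_top_iff.mpr fun g _ y hy => by
          rw [Subgroup.mem_bot.mp hy, one_mul, mul_one]
      rw [this]
      simp
  | succ a ih =>
      intro N hNn hN
      have hp : p.Prime := Fact.out
      have hne : N ≠ ⊥ := by
        rintro rfl
        rw [Subgroup.card_bot] at hN
        exact (Nat.one_lt_pow a.succ_ne_zero hp.one_lt).ne hN
      obtain ⟨M, hMn, hMN, hM⟩ := exists_normal_lt_index_prime hG N hne
      rw [hN, pow_succ] at hM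
      have hMc : Nat.card M = p ^ a := Nat.eq_of_mul_eq_mul_right hp.pos hM
      obtain ⟨x, hxN, hxM⟩ : ∃ x ∈ N, x ∉ M := by
        by_contra! h
        have := Subgroup.card_le_of_le (show N ≤ M from h)
        rw [hN, hMc, pow_succ] at this
        have := Nat.one_lt_two.trans_le hp.two_le
        have : 0 < p ^ a := pow_pos hp.pos a
        nlinarith
      -- `[G, x] ≤ M`
      have hcom : ∀ g : G, ⁅g, x⁆ ∈ M := by
        intro g
        let f := QuotientGroup.mk' M
        have hNf : (N.map f).Normal := hNn.map f (QuotientGroup.mk'_surjective M)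
        have hNfc : Nat.card (N.map f) = p := by
          have h1 : Nat.card (N.map f) = (f.domRestrict N).ker.index := by
            rw [Subgroup.index_ker, MonoidHom.domRestrict_range]
          have h2 : Nat.card (f.domRestrict N).ker = p ^ a := by
            rw [MonoidHom.ker_domRestrict, QuotientGroup.ker_mk',
              Nat.card_congr (Subgroup.subgroupOfEquivOfLe hMN).toEquiv, hMc]
          have h3 := Subgroup.card_mul_index (f.domRestrict N).ker
          rw [← h1, h2, hN, pow_succ] at h3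
          exact Nat.eq_of_mul_eq_mul_left (pow_pos hp.pos a) h3
        have hc := le_center_of_normal_card_prime (hG.to_quotient M) (N.map f) hNfc
          (Subgroup.mem_map_of_mem f hxN)
        have h : f ⁅g, x⁆ = 1 := by
          rw [map_commutatorElement, commutatorElement_eq_one_iff_mul_comm]
          exact Subgroup.mem_center_iff.mp hc (f g)
        exact (QuotientGroup.eq_one_iff _).mp h
      have hle : Subgroup.centralizer (N : Set G) ≤ Subgroup.centralizer (M : Set G) :=
        Subgroup.centralizer_le hMN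
      have hsup : N ≤ M ⊔ Subgroup.zpowers x := by
        have h1 := card_mul_le_card_of_mem (le_sup_left : M ≤ M ⊔ Subgroup.zpowers x)
          (hG.to_subgroup _) (le_sup_right (a := M) (Subgroup.mem_zpowers x)) hxM
        have h2 : M ⊔ Subgroup.zpowers x ≤ N := sup_le hMN (Subgroup.zpowers_le.mpr hxN)
        exact (Subgroup.eq_of_le_of_card_ge h2 (by rw [hN, pow_succ, ← hMc]; exact h1)).ge
      have hrel : (Subgroup.centralizer (N : Set G)).relIndex
          (Subgroup.centralizer (M : Set G)) ≤ p ^ a := by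
        rw [Subgroup.relIndex, Subgroup.index_eq_card, ← hMc]
        let fn : Subgroup.centralizer (M : Set G) → M := fun g => ⟨⁅(g : G), x⁆, hcom g⟩
        refine Nat.card_le_card_of_injective (fun q => fn (Quotient.out q)) ?_
        intro q₁ q₂ h
        have h' : ⁅((Quotient.out q₁ : _) : G), x⁆ = ⁅((Quotient.out q₂ : _) : G), x⁆ :=
          congrArg Subtype.val h
        rw [← QuotientGroup.out_eq' q₁, ← QuotientGroup.out_eq' q₂]
        rw [QuotientGroup.eq, Subgroup.mem_subgroupOf]
        generalize hg : ((Quotient.out q₁ : _) : G) = g₁ at h'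
        generalize hg' : ((Quotient.out q₂ : _) : G) = g₂ at h'
        rw [Subgroup.coe_mul, Subgroup.coe_inv]
        simp only [hg, hg']
        have hM1 : g₁ ∈ Subgroup.centralizer (M : Set G) := hg ▸ (Quotient.out q₁).2
        have hM2 : g₂ ∈ Subgroup.centralizer (M : Set G) := hg' ▸ (Quotient.out q₂).2
        have hk : g₁⁻¹ * g₂ ∈ Subgroup.centralizer ((M ⊔ Subgroup.zpowers x : Subgroup G) : Set G) := by
          rw [Subgroup.zpowers_eq_closure, ← Subgroup.closure_eq M, ← Subgroup.closure_union,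
            Subgroup.centralizer_closure]
          rintro y (hy | hy)
          · exact (Subgroup.mul_mem _ (Subgroup.inv_mem _ hM1) hM2) y hy
          · rw [Set.mem_singleton_iff.mp hy]
            simp only [commutatorElement_def, mul_left_inj] at h'
            have h'' : g₁ * x = g₂ * x * g₂⁻¹ * g₁ := by rw [← h']; group
            calc x * (g₁⁻¹ * g₂) = g₁⁻¹ * (g₁ * x) * g₁⁻¹ * g₂ := by group
              _ = g₁⁻¹ * g₂ * x := by rw [h'']; group
        exact Subgroup.centralizer_le hsup hk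
      calc (Subgroup.centralizer (N : Set G)).index
          = (Subgroup.centralizer (N : Set G)).relIndex (Subgroup.centralizer (M : Set G)) *
              (Subgroup.centralizer (M : Set G)).index := (Subgroup.relIndex_mul_index hle).symm
        _ ≤ p ^ a * p ^ a.choose 2 := Nat.mul_le_mul hrel (ih M hMn hMc)
        _ = p ^ (a + 1).choose 2 := by
            rw [← pow_add, Nat.choose_succ_succ' a 1, Nat.choose_one_right]

/-- The order bound from a self-centralising normal subgroup. -/
theorem card_le_of_centralizer_le [Finite G] [Fact p.Prime] (hG : IsPGroup p G) [hn : A.Normal]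
    (hC : Subgroup.centralizer (A : Set G) ≤ A) {a : ℕ} (ha : Nat.card A = p ^ a) :
    Nat.card G ≤ p ^ (a + a.choose 2) := by
  rw [← Subgroup.card_mul_index (Subgroup.centralizer (A : Set G)), pow_add, ← ha]
  exact Nat.mul_le_mul (Subgroup.card_le_of_le hC) (index_centralizer_le hG a A hn ha)

end Cfsg.Agent.Lib.PGroups
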