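import Mathlib.GroupTheory.Sylow
import Mathlib.GroupTheory.IndexNormal
import Mathlib.NumberTheory.Multiplicity
import Mathlib.FieldTheory.Finite.Basic
import Cfsg.Agent.Lib.PGroups.ElemAb
import Cfsg.Agent.Lib.PGroups.MaxAbelian

/-!
# Groups with a cyclic subgroup of index `p`, `p` odd
-/

namespace Cfsg.Agent.Lib.PGroups

open Subgroup
open scoped commutatorElement

variable {G : Type*} [Group G] {p : ℕ}

/-- Lifting the exponent: `p ^ (j + 1) ∣ r ^ p - 1` forces `p ^ j ∣ r - 1` for odd `p`. -/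
theorem dvd_sub_one_of_dvd_pow_sub_one [hp : Fact p.Prime] (hp2 : p ≠ 2) {r : ℤ} {j : ℕ}
    (h : (p : ℤ) ^ (j + 1) ∣ r ^ p - 1) : (p : ℤ) ^ j ∣ r - 1 := by
  have hpp : p.Prime := Fact.out
  have h1 : (p : ℤ) ∣ r ^ p - 1 := (dvd_pow_self _ j.succ_ne_zero).trans h
  have h2 : (p : ℤ) ∣ r ^ p - r := by
    rw [← ZMod.intCast_zmod_eq_zero_iff_dvd]
    push_cast
    rw [ZMod.pow_card, sub_self]
  have hxy : (p : ℤ) ∣ r - 1 := by
    have := dvd_sub h1 h2
    simpa using this
  have hx : ¬ (p : ℤ) ∣ r := by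
    intro hr
    have : (p : ℤ) ∣ 1 := by simpa using dvd_sub hr hxy
    have h' : p ∣ 1 := by exact_mod_cast this
    exact hpp.one_lt.ne' (Nat.dvd_one.mp h')
  have hm := Int.emultiplicity_pow_sub_pow hpp (hpp.odd_of_ne_two hp2) hxy hx p
  rw [one_pow, hpp.emultiplicity_self] at hm
  have h3 := le_emultiplicity_of_pow_dvd h
  rw [hm, Nat.cast_add, Nat.cast_one] at h3
  exact pow_dvd_of_le_emultiplicity ((ENat.add_le_add_iff_right ENat.one_ne_top).mp h3)

theorem coe_index_prime_normal [Finite G] [hp : Fact p.Prime] (hG : IsPGroup p G) {C : Subgroup G}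
    (hCi : C.index = p) : C.Normal := by
  refine Subgroup.normal_of_index_eq_minFac_card ?_
  obtain ⟨n, hn⟩ := IsPGroup.iff_card.mp hG
  have hn0 : n ≠ 0 := by
    rintro rfl
    have h := C.index_dvd_card
    rw [hCi, hn, pow_zero, Nat.dvd_one] at h
    exact (Fact.out : p.Prime).one_lt.ne' h
  rw [hCi, hn, Nat.Prime.pow_minFac Fact.out hn0]

/-- In a finite `p`-group, `p` odd, with a normal subgroup `⟨a⟩` of index `p`, the elements of order
dividing `p` form a subgroup whose intersection with `⟨a⟩` has index `p` in it. -/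
theorem omega_of_cyclic_index_prime [Finite G] [hp : Fact p.Prime] (hp2 : p ≠ 2)
    (hG : IsPGroup p G) (hnc : ¬ IsCyclic G) {C : Subgroup G} (hC : IsCyclic C)
    (hCi : C.index = p) :
    ∃ E : Subgroup G, (∀ x, x ∈ E ↔ x ^ p = 1) ∧ Cfsg.IsElementaryAbelian p E ∧
      Nat.card E = p ^ 2 := by
  have hpp : p.Prime := Fact.out
  have hCn : C.Normal := coe_index_prime_normal hG hCi
  obtain ⟨a, ha⟩ := C.isCyclic_iff_exists_zpowers_eq_top.mp hC
  have haC : a ∈ C := ha ▸ Subgroup.mem_zpowers a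
  obtain ⟨m', hm'⟩ := IsPGroup.iff_card.mp (hG.to_subgroup C)
  have hord : orderOf a = p ^ m' := by rw [← Nat.card_zpowers, ha, hm']
  obtain ⟨m, rfl⟩ : ∃ m, m' = m + 1 := by
    rcases m' with _ | m
    · exfalso
      have h := C.card_mul_index
      rw [hm', hCi, pow_zero, one_mul] at h
      exact hnc (isCyclic_of_prime_card h.symm)
    · exact ⟨m, rfl⟩
  have hconj : ∀ g : G, ∃ r : ℤ, (p : ℤ) ^ m ∣ r - 1 ∧ g * a * g⁻¹ = a ^ r := by
    intro g
    obtain ⟨r, hr⟩ := Subgroup.mem_zpowers_iff.mp (ha ▸ hCn.conj_mem a haC g)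
    refine ⟨r, dvd_sub_one_of_dvd_pow_sub_one hp2 ?_, hr.symm⟩
    have hit : ∀ k : ℕ, g ^ k * a * (g ^ k)⁻¹ = a ^ (r ^ k) := by
      intro k
      induction k with
      | zero => simp
      | succ k ih =>
          calc g ^ (k + 1) * a * (g ^ (k + 1))⁻¹ = g * (g ^ k * a * (g ^ k)⁻¹) * g⁻¹ := by
                rw [pow_succ']; group
            _ = (g * a * g⁻¹) ^ (r ^ k) := by rw [ih, conj_zpow]
            _ = a ^ (r ^ (k + 1)) := by rw [← hr, ← zpow_mul, pow_succ']
    obtain ⟨s, hs⟩ := Subgroup.mem_zpowers_iff.mp (ha ▸ (hCi ▸ C.pow_index_mem g : g ^ p ∈ C))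
    have h := hit p
    rw [← hs, show a ^ s * a * (a ^ s)⁻¹ = a by group] at h
    have h' : a ^ (r ^ p - 1) = 1 := by rw [zpow_sub, zpow_one, ← h, mul_inv_cancel]
    have := orderOf_dvd_iff_zpow_eq_one.mpr h'
    rw [hord] at this
    exact_mod_cast this
  -- commutators with `a` lie in `⟨a ^ p ^ m⟩`, which is central
  set z := a ^ p ^ m with hz
  have hzp : z ^ p = 1 := by
    rw [hz, ← pow_mul, ← pow_succ, ← hord]
    exact pow_orderOf_eq_one a
  have hzo : orderOf z = p := by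
    refine orderOf_eq_prime hzp fun h1 => ?_
    have := orderOf_dvd_of_pow_eq_one h1
    rw [hord, Nat.pow_dvd_pow_iff_le_right hpp.one_lt] at this
    omega
  have hzn : (Subgroup.zpowers z).Normal := ⟨fun x hx g => by
    obtain ⟨k, rfl⟩ := Subgroup.mem_zpowers_iff.mp hx
    obtain ⟨r, -, hr⟩ := hconj g
    refine Subgroup.mem_zpowers_iff.mpr ⟨r * k, ?_⟩
    rw [← conj_zpow, hz, ← conj_pow, hr, ← zpow_natCast, ← zpow_natCast (a ^ r), ← zpow_mul,
      ← zpow_mul, ← zpow_mul]
    congr 1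
    ring⟩
  have hzc : Subgroup.zpowers z ≤ Subgroup.center G :=
    le_center_of_normal_card_prime hG _ (by rw [Nat.card_zpowers, hzo])
  have hcomA : ∀ g c : G, c ∈ C → ⁅g, c⁆ ∈ Subgroup.zpowers z := by
    intro g c hc
    obtain ⟨k, rfl⟩ := Subgroup.mem_zpowers_iff.mp (ha ▸ hc)
    obtain ⟨r, ⟨q, hq⟩, hr⟩ := hconj g
    refine Subgroup.mem_zpowers_iff.mpr ⟨q * k, ?_⟩
    rw [commutatorElement_def, ← conj_zpow, hr, ← zpow_mul, ← zpow_neg, ← zpow_add, hz,
      ← zpow_natCast, ← zpow_mul]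
    congr 1
    push_cast
    rw [show r * k + -k = (r - 1) * k by ring, hq]
    ring
  obtain ⟨t, htC⟩ : ∃ t, t ∉ C := by
    by_contra! h
    have : C = ⊤ := eq_top_iff.mpr fun x _ => h x
    rw [this, Subgroup.index_top] at hCi
    exact hpp.one_lt.ne hCi
  have hcom : ∀ x y : G, ⁅x, y⁆ ∈ Subgroup.zpowers z := by
    have hco : C ⊔ Subgroup.zpowers t = ⊤ := by
      have h1 := card_mul_le_card_of_mem (le_sup_left : C ≤ C ⊔ Subgroup.zpowers t)
        (hG.to_subgroup _) (le_sup_right (a := C) (Subgroup.mem_zpowers t)) htC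
      refine Subgroup.eq_top_of_le_card _ ?_
      calc Nat.card G = Nat.card C * C.index := C.card_mul_index.symm
        _ ≤ _ := hCi ▸ h1
    have hfc : ∀ u v, u ∈ C → (QuotientGroup.mk' (Subgroup.zpowers z) u) *
        QuotientGroup.mk' _ v = QuotientGroup.mk' _ v * QuotientGroup.mk' _ u := by
      intro u v hu
      rw [← commutatorElement_eq_one_iff_mul_comm, ← map_commutatorElement]
      refine (QuotientGroup.eq_one_iff _).mpr ?_
      rw [← commutatorElement_inv]
      exact Subgroup.inv_mem _ (hcomA v u hu)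
    intro x y
    obtain ⟨c₁, hc₁, u₁, ⟨k₁, rfl⟩, rfl⟩ :=
      Subgroup.mem_sup_of_normal_left.mp (hco ▸ Subgroup.mem_top x)
    obtain ⟨c₂, hc₂, u₂, ⟨k₂, rfl⟩, rfl⟩ :=
      Subgroup.mem_sup_of_normal_left.mp (hco ▸ Subgroup.mem_top y)
    refine (QuotientGroup.eq_one_iff _).mp ?_
    show QuotientGroup.mk' (Subgroup.zpowers z) _ = 1
    rw [map_commutatorElement, commutatorElement_eq_one_iff_mul_comm, map_mul, map_mul]
    refine Commute.mul_left ?_ (Commute.mul_right ?_ ?_)
    · rw [← map_mul]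
      exact hfc _ _ hc₁
    · exact (hfc _ _ hc₂).symm
    · rw [map_zpow, map_zpow]
      exact (Commute.refl _).zpow_zpow k₁ k₂
  -- hence the `p`-th power map is an endomorphism
  have hmul : ∀ x y : G, (x * y) ^ p = x ^ p * y ^ p := by
    intro x y
    have hc := hzc (hcom y x)
    obtain ⟨d, hd⟩ : p ∣ p.choose 2 := by
      have h := prime_dvd_choose_two (p := p) (n := 1) (by simpa using hp2) le_rfl
      rwa [pow_one] at h
    obtain ⟨k, hk⟩ := Subgroup.mem_zpowers_iff.mp (hcom y x)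
    have hcp : ⁅y, x⁆ ^ p = 1 := by
      rw [← hk, ← zpow_natCast, ← zpow_mul, mul_comm, zpow_mul, zpow_natCast, hzp, one_zpow]
    rw [mul_pow_of_central_commutator x y (Subgroup.mem_center_iff.mp hc x)
      (Subgroup.mem_center_iff.mp hc y), hd, pow_mul, hcp, one_pow, mul_one]
  let f : G →* G := MonoidHom.mk' (fun x => x ^ p) hmul
  have hrange : Nat.card f.range ≤ p ^ m := by
    have hle : f.range ≤ Subgroup.zpowers (a ^ p) := by
      rintro _ ⟨x, rfl⟩
      obtain ⟨k, hk⟩ := Subgroup.mem_zpowers_iff.mp (ha ▸ (hCi ▸ C.pow_index_mem x : x ^ p ∈ C))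
      show x ^ p ∈ _
      by_cases hkp : (p : ℤ) ∣ k
      · obtain ⟨q, rfl⟩ := hkp
        exact Subgroup.mem_zpowers_iff.mpr ⟨q, by rw [← hk, ← zpow_natCast, ← zpow_mul]⟩
      · exfalso
        apply hnc
        have hax : a ∈ Subgroup.zpowers x := by
          obtain ⟨u, v, huv⟩ :=
            ((Nat.prime_iff_prime_int.mp hpp).coprime_iff_not_dvd.mpr hkp).pow_left (m := m + 1)
          refine Subgroup.mem_zpowers_iff.mpr ⟨(p : ℤ) * v, ?_⟩
          have hzero : a ^ ((p : ℤ) ^ (m + 1)) = 1 := by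
            rw [← Nat.cast_pow, zpow_natCast, ← hord]
            exact pow_orderOf_eq_one a
          rw [zpow_mul, zpow_natCast, ← hk, ← zpow_mul]
          calc a ^ (k * v) = (a ^ ((p : ℤ) ^ (m + 1))) ^ u * a ^ (v * k) := by
                rw [hzero, one_zpow, one_mul, mul_comm]
            _ = a ^ (1 : ℤ) := by rw [← zpow_mul, mul_comm _ u, ← zpow_add, huv]
            _ = a := zpow_one a
        have hCx : C ≤ Subgroup.zpowers x := by rw [← ha]; exact Subgroup.zpowers_le.mpr hax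
        have hxC : x ∉ C := fun hx' => by
          obtain ⟨s, rfl⟩ := Subgroup.mem_zpowers_iff.mp (ha ▸ hx')
          have h0 : a ^ (k - s * p) = 1 := by
            rw [zpow_sub, zpow_mul, zpow_natCast, hk, mul_inv_cancel]
          have hd := orderOf_dvd_iff_zpow_eq_one.mpr h0
          rw [hord] at hd
          push_cast at hd
          apply hkp
          have := ((dvd_pow_self (p : ℤ) m.succ_ne_zero).trans hd).add (dvd_mul_left (p : ℤ) s)
          simpa using this
        have htop : Subgroup.zpowers x = ⊤ := by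
          refine Subgroup.eq_top_of_le_card _ ?_
          calc Nat.card G = Nat.card C * C.index := C.card_mul_index.symm
            _ ≤ Nat.card (Subgroup.zpowers x) := hCi ▸ card_mul_le_card_of_mem hCx
                (hG.to_subgroup _) (Subgroup.mem_zpowers x) hxC
        exact ⟨x, fun y => show y ∈ Subgroup.zpowers x from htop.symm ▸ Subgroup.mem_top y⟩
    refine (Subgroup.card_le_of_le hle).trans_eq ?_
    rw [Nat.card_zpowers, orderOf_pow' a hpp.ne_zero, hord,
      Nat.gcd_eq_right (dvd_pow_self p m.succ_ne_zero), pow_succ, Nat.mul_div_cancel _ hpp.pos]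
  have hker : p ^ 2 ≤ Nat.card f.ker := by
    have h1 := Subgroup.card_mul_index f.ker
    rw [Subgroup.index_ker, ← C.card_mul_index, hm', hCi] at h1
    have h2 : p ^ 2 * p ^ m ≤ Nat.card f.ker * p ^ m := by
      calc p ^ 2 * p ^ m = p ^ (m + 1) * p := by ring
        _ = Nat.card f.ker * Nat.card f.range := h1.symm
        _ ≤ _ := Nat.mul_le_mul_left _ hrange
    exact Nat.le_of_mul_le_mul_right h2 (pow_pos hpp.pos m)
  have hCker : Nat.card (C ⊓ f.ker : Subgroup G) ∣ p := by
    have : IsCyclic (C ⊓ f.ker : Subgroup G) := Subgroup.isCyclic_of_le inf_le_left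
    refine elemAb_card_dvd_of_isCyclic (elemAb_mk ?_ fun x hx => hx.2)
    intro x hx y hy
    have := hC.isMulCommutative
    exact setLike_mul_comm hx.1 hy.1
  have hker2 : Nat.card f.ker ≤ p ^ 2 := by
    have h1 : C.relIndex f.ker ∣ p := hCi ▸ Subgroup.relIndex_dvd_index_of_normal C f.ker
    rw [← Subgroup.card_mul_index ((C ⊓ f.ker).subgroupOf f.ker), sq]
    refine Nat.mul_le_mul ?_ ?_
    · rw [Nat.card_congr (Subgroup.subgroupOfEquivOfLe inf_le_right).toEquiv]
      exact Nat.le_of_dvd hpp.pos hCker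
    · rw [← Subgroup.relIndex, Subgroup.inf_relIndex_right]
      exact Nat.le_of_dvd hpp.pos h1
  have hcard : Nat.card f.ker = p ^ 2 := le_antisymm hker2 hker
  refine ⟨f.ker, fun x => Iff.rfl, elemAb_mk ?_ fun x hx => hx, hcard⟩
  have hab := IsPGroup.isMulCommutative_of_card_eq_prime_sq hcard
  intro x hx y hy
  exact congrArg Subtype.val (hab.is_comm.comm ⟨x, hx⟩ ⟨y, hy⟩)

end Cfsg.Agent.Lib.PGroups
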