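import Mathlib.GroupTheory.SpecificGroups.Quaternion
import Mathlib.GroupTheory.SpecificGroups.Dihedral
import Mathlib.GroupTheory.OrderOfElement

/-!
# Recognition of dihedral and generalised quaternion groups from generators and relations
-/

namespace Cfsg.Agent.Lib.PGroups

variable {G : Type*} [Group G] {a x : G} {m : ℕ}

theorem pow_zmod_val_add [NeZero m] (ha : orderOf a = m) (i j : ZMod m) :
    a ^ (i + j).val = a ^ i.val * a ^ j.val := by
  rw [← pow_add, pow_eq_pow_iff_modEq, ha, ZMod.val_add]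
  exact Nat.mod_modEq _ _

theorem pow_zmod_val_neg [NeZero m] (ha : orderOf a = m) (i : ZMod m) :
    a ^ (-i).val = (a ^ i.val)⁻¹ := by
  refine eq_inv_of_mul_eq_one_left ?_
  rw [← pow_zmod_val_add ha, neg_add_cancel, ZMod.val_zero, pow_zero]

theorem pow_zmod_val_sub [NeZero m] (ha : orderOf a = m) (i j : ZMod m) :
    a ^ (i - j).val = a ^ i.val * (a ^ j.val)⁻¹ := by
  rw [sub_eq_add_neg, pow_zmod_val_add ha, pow_zmod_val_neg ha]

theorem pow_zmod_val_natCast [NeZero m] (ha : orderOf a = m) (k : ℕ) :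
    a ^ (k : ZMod m).val = a ^ k := by
  rw [pow_eq_pow_iff_modEq, ha, ZMod.val_natCast]
  exact Nat.mod_modEq _ _

/-- Conjugation by `x` inverts the powers of `a`. -/
theorem conj_pow_of_inverts (hinv : x * a * x⁻¹ = a⁻¹) (k : ℕ) : x * a ^ k = (a ^ k)⁻¹ * x := by
  have h : x * a ^ k * x⁻¹ = (a ^ k)⁻¹ := by rw [← conj_pow, hinv, inv_pow]
  rw [← h, inv_mul_cancel_right]

theorem pow_mul_of_inverts (hinv : x * a * x⁻¹ = a⁻¹) (k : ℕ) : a ^ k * x = x * (a ^ k)⁻¹ := by
  have h : x * a⁻¹ * x⁻¹ = a := by rw [← conj_inv, hinv, inv_inv]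
  have h2 : x * (a ^ k)⁻¹ * x⁻¹ = a ^ k := by rw [← inv_pow, ← conj_pow, h]
  calc a ^ k * x = x * (a ^ k)⁻¹ * x⁻¹ * x := by rw [h2]
    _ = x * (a ^ k)⁻¹ := inv_mul_cancel_right _ _

/-- Recognition of the dihedral group of order `2 * m`. -/
theorem nonempty_dihedral_equiv [Finite G] [NeZero m] (ha : orderOf a = m) (hx2 : x ^ 2 = 1)
    (hinv : x * a * x⁻¹ = a⁻¹) (hxa : x ∉ Subgroup.zpowers a) (hcard : Nat.card G = 2 * m) :
    Nonempty (G ≃* DihedralGroup m) := by
  let f : DihedralGroup m → G := fun g => match g with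
    | .r i => a ^ i.val
    | .sr i => x * a ^ i.val
  have hxx : x * x = 1 := by rw [← sq, hx2]
  have hmul : ∀ g h : DihedralGroup m, f (g * h) = f g * f h := by
    rintro (i | i) (j | j)
    · rw [DihedralGroup.r_mul_r]; exact pow_zmod_val_add ha i j
    · rw [DihedralGroup.r_mul_sr]
      show x * a ^ (j - i).val = a ^ i.val * (x * a ^ j.val)
      rw [pow_zmod_val_sub ha, ← mul_assoc (a ^ i.val), pow_mul_of_inverts hinv, mul_assoc x,
        (Commute.pow_pow_self a j.val i.val).inv_right.eq]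
    · rw [DihedralGroup.sr_mul_r]
      show x * a ^ (i + j).val = x * a ^ i.val * a ^ j.val
      rw [pow_zmod_val_add ha, mul_assoc]
    · rw [DihedralGroup.sr_mul_sr]
      show a ^ (j - i).val = x * a ^ i.val * (x * a ^ j.val)
      rw [pow_zmod_val_sub ha, ← mul_assoc (x * a ^ i.val), mul_assoc x (a ^ i.val) x,
        pow_mul_of_inverts hinv, ← mul_assoc x x, hxx, one_mul,
        (Commute.pow_pow_self a j.val i.val).inv_right.eq]
  let F : DihedralGroup m →* G := MonoidHom.mk' f hmul
  have hinj : Function.Injective F := by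
    rw [injective_iff_map_eq_one]
    rintro (i | i) h
    · have h' : a ^ i.val = a ^ 0 := by rw [pow_zero]; exact h
      rw [pow_eq_pow_iff_modEq, ha] at h'
      have : i.val = 0 := h'.eq_of_lt_of_lt i.val_lt (NeZero.pos m)
      rw [(ZMod.val_eq_zero i).mp this]
      exact DihedralGroup.one_def.symm
    · refine absurd ?_ hxa
      have h' : x * a ^ i.val = 1 := h
      rw [eq_inv_of_mul_eq_one_left h']
      exact Subgroup.inv_mem _ (Subgroup.pow_mem _ (Subgroup.mem_zpowers a) _)
  have hbij : Function.Bijective F :=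
    (Nat.bijective_iff_injective_and_card F).mpr ⟨hinj, by rw [DihedralGroup.nat_card, hcard]⟩
  exact ⟨(MulEquiv.ofBijective F hbij).symm⟩

/-- Recognition of the generalised quaternion group of order `4 * m`. -/
theorem nonempty_quaternion_equiv [Finite G] [NeZero m] (ha : orderOf a = 2 * m)
    (hx2 : x ^ 2 = a ^ m) (hinv : x * a * x⁻¹ = a⁻¹) (hxa : x ∉ Subgroup.zpowers a)
    (hcard : Nat.card G = 4 * m) : Nonempty (G ≃* QuaternionGroup m) := by
  let f : QuaternionGroup m → G := fun g => match g with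
    | .a i => a ^ i.val
    | .xa i => x * a ^ i.val
  have hmul : ∀ g h : QuaternionGroup m, f (g * h) = f g * f h := by
    rintro (i | i) (j | j)
    · rw [QuaternionGroup.a_mul_a]; exact pow_zmod_val_add ha i j
    · rw [QuaternionGroup.a_mul_xa]
      show x * a ^ (j - i).val = a ^ i.val * (x * a ^ j.val)
      rw [pow_zmod_val_sub ha, ← mul_assoc (a ^ i.val), pow_mul_of_inverts hinv, mul_assoc x,
        (Commute.pow_pow_self a j.val i.val).inv_right.eq]
    · rw [QuaternionGroup.xa_mul_a]
      show x * a ^ (i + j).val = x * a ^ i.val * a ^ j.val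
      rw [pow_zmod_val_add ha, mul_assoc]
    · rw [QuaternionGroup.xa_mul_xa]
      show a ^ ((m : ZMod (2 * m)) + j - i).val = x * a ^ i.val * (x * a ^ j.val)
      rw [pow_zmod_val_sub ha, pow_zmod_val_add ha, pow_zmod_val_natCast ha,
        ← mul_assoc (x * a ^ i.val), mul_assoc x (a ^ i.val) x, pow_mul_of_inverts hinv,
        ← mul_assoc x x, ← sq, hx2, mul_assoc, mul_assoc,
        (Commute.pow_pow_self a j.val i.val).inv_right.eq]
  let F : QuaternionGroup m →* G := MonoidHom.mk' f hmul
  have hinj : Function.Injective F := by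
    rw [injective_iff_map_eq_one]
    rintro (i | i) h
    · have h' : a ^ i.val = a ^ 0 := by rw [pow_zero]; exact h
      rw [pow_eq_pow_iff_modEq, ha] at h'
      have : i.val = 0 := h'.eq_of_lt_of_lt i.val_lt (NeZero.pos (2 * m))
      rw [(ZMod.val_eq_zero i).mp this]
      exact QuaternionGroup.a_zero
    · refine absurd ?_ hxa
      have h' : x * a ^ i.val = 1 := h
      rw [eq_inv_of_mul_eq_one_left h']
      exact Subgroup.inv_mem _ (Subgroup.pow_mem _ (Subgroup.mem_zpowers a) _)
  have hbij : Function.Bijective F :=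
    (Nat.bijective_iff_injective_and_card F).mpr
      ⟨hinj, by rw [Nat.card_eq_fintype_card, QuaternionGroup.card, hcard]⟩
  exact ⟨(MulEquiv.ofBijective F hbij).symm⟩

end Cfsg.Agent.Lib.PGroups
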