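import Mathlib.GroupTheory.Sylow
import Mathlib.GroupTheory.SpecificGroups.Quaternion
import Cfsg.Agent.Lib.PGroups.ElemAb
import Cfsg.Agent.Lib.PGroups.Omega
import Cfsg.Agent.Lib.PGroups.MaxAbelian
import Cfsg.Agent.Lib.PGroups.CyclicIndexP
import Cfsg.Agent.Lib.PGroups.Recognition

/-!
# `p`-groups with a unique subgroup of order `p`

Such a group is cyclic, or `p = 2` and it is generalised quaternion. For odd `p` a non-cyclic
`p`-group has a normal elementary abelian subgroup of order `p ^ 2`.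
-/

namespace Cfsg.Agent.Lib.PGroups

open Subgroup
open scoped commutatorElement

variable {G : Type*} [Group G] {p : ℕ} {A : Subgroup G}

/-- An abelian `p`-subgroup all whose elementary abelian subgroups have order `≤ p` is cyclic. -/
theorem isCyclic_of_comm_omega [Finite G] [Fact p.Prime] (hA : IsMulCommutative A)
    (hAp : IsPGroup p A) (h : Nat.card (Cfsg.omegaOne p A) ≤ p) : IsCyclic A := by
  induction hn : Nat.card A using Nat.strong_induction_on generalizing A with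
  | _ n ih =>
    rcases eq_or_ne A ⊥ with rfl | hne
    · infer_instance
    obtain ⟨z, hzA, hz⟩ := exists_orderOf_eq_prime_of_ne_bot hAp hne
    have hzp : z ^ p = 1 := hz ▸ pow_orderOf_eq_one z
    have hom : Cfsg.omegaOne p A = Subgroup.zpowers z := by
      refine (Subgroup.eq_of_le_of_card_ge
        (Subgroup.zpowers_le.mpr (mem_omegaOne_of_pow hzA hzp)) ?_).symm
      rw [Nat.card_zpowers, hz]
      exact h
    have hcom : ∀ x ∈ A, ∀ y ∈ A, x * y = y * x := fun x hx y hy => by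
      have := hA
      exact setLike_mul_comm hx hy
    let f : A →* G := MonoidHom.mk' (fun x : A => (x : G) ^ p) fun x y => by
      simpa using Commute.mul_pow (hcom x x.2 y y.2) p
    have hle : f.range ≤ A := by rintro _ ⟨x, rfl⟩; exact A.pow_mem x.2 p
    have hlt : Nat.card f.range < n := by
      rw [← hn]
      refine lt_of_le_of_ne (Subgroup.card_le_of_le hle) fun he => ?_
      have h1 := Subgroup.card_mul_index f.ker
      rw [Subgroup.index_ker, he] at h1
      have hk : f.ker = ⊥ :=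
        Subgroup.eq_bot_of_card_eq _ ((Nat.mul_eq_right (Nat.card_pos).ne').mp h1)
      have hzk : (⟨z, hzA⟩ : A) ∈ f.ker := hzp
      rw [hk, Subgroup.mem_bot, Subgroup.mk_eq_one] at hzk
      rw [hzk, orderOf_one] at hz
      exact (Fact.out : p.Prime).one_lt.ne hz
    have hcyc : IsCyclic f.range := ih _ hlt
      (Subgroup.le_centralizer_iff_isMulCommutative.mp fun x hx y hy =>
        (hcom x (hle hx) y (hle hy)).symm)
      (hAp.to_le hle) ((Subgroup.card_le_of_le (omegaOne_mono hle)).trans h) rfl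
    obtain ⟨w, hw⟩ := (f.range.isCyclic_iff_exists_zpowers_eq_top).mp hcyc
    obtain ⟨x, hxw⟩ : w ∈ f.range := hw ▸ Subgroup.mem_zpowers w
    rcases eq_or_ne w 1 with rfl | hw1
    · have hall : A ≤ Subgroup.zpowers z := by
        intro y hy
        have hy' : f ⟨y, hy⟩ ∈ Subgroup.zpowers (1 : G) := hw.symm ▸ ⟨⟨y, hy⟩, rfl⟩
        rw [Subgroup.zpowers_one_eq_bot, Subgroup.mem_bot] at hy'
        exact hom ▸ mem_omegaOne_of_pow hy hy'
      exact Subgroup.isCyclic_of_le hall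
    · have hxA : Subgroup.zpowers (x : G) ≤ A := Subgroup.zpowers_le.mpr x.2
      have hxne : Subgroup.zpowers (x : G) ≠ ⊥ := by
        intro h0
        rw [Subgroup.zpowers_eq_bot] at h0
        exact hw1 (by rw [← hxw]; show (x : G) ^ p = 1; rw [h0, one_pow])
      obtain ⟨v, hv, hvo⟩ := exists_orderOf_eq_prime_of_ne_bot (hAp.to_le hxA) hxne
      have hzx : Subgroup.zpowers z ≤ Subgroup.zpowers (x : G) := by
        have hvz : Subgroup.zpowers v = Subgroup.zpowers z := by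
          refine Subgroup.eq_of_le_of_card_ge (Subgroup.zpowers_le.mpr ?_)
            (by rw [Nat.card_zpowers, Nat.card_zpowers, hz, hvo])
          exact hom ▸ mem_omegaOne_of_pow (hxA hv) (hvo ▸ pow_orderOf_eq_one v)
        exact hvz ▸ Subgroup.zpowers_le.mpr hv
      have hall : A ≤ Subgroup.zpowers (x : G) := by
        intro y hy
        have hy' : f ⟨y, hy⟩ ∈ Subgroup.zpowers w := hw.symm ▸ ⟨⟨y, hy⟩, rfl⟩
        obtain ⟨k, hk⟩ := Subgroup.mem_zpowers_iff.mp hy'
        rw [← hxw] at hk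
        have hk' : ((x : G) ^ p) ^ k = y ^ p := hk
        have hc : Commute y ((x : G) ^ k)⁻¹ :=
          hcom y hy _ (A.inv_mem (A.zpow_mem x.2 k))
        have h1 : (y * ((x : G) ^ k)⁻¹) ^ p = 1 := by
          rw [hc.mul_pow, ← hk', inv_pow, ← zpow_natCast, ← zpow_natCast, ← zpow_mul, ← zpow_mul,
            mul_comm k, mul_inv_cancel]
        have h2 := hzx (hom ▸ mem_omegaOne_of_pow
          (A.mul_mem hy (A.inv_mem (A.zpow_mem x.2 k))) h1)
        simpa using Subgroup.mul_mem _ h2 (Subgroup.zpow_mem _ (Subgroup.mem_zpowers (x : G)) k)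
      exact Subgroup.isCyclic_of_le hall

/-- A non-cyclic abelian `p`-subgroup contains `Ω₁` of order at least `p ^ 2`. -/
theorem sq_le_card_omegaOne [Finite G] [Fact p.Prime] (hA : IsMulCommutative A)
    (hAp : IsPGroup p A) (hnc : ¬ IsCyclic A) : p ^ 2 ≤ Nat.card (Cfsg.omegaOne p A) := by
  obtain ⟨k, hk⟩ := elemAb_card_eq_pow (elemAb_omegaOne (p := p) hA)
  have h1 : ¬ p ^ k ≤ p := fun h => hnc (isCyclic_of_comm_omega hA hAp (hk ▸ h))
  rw [hk]
  refine Nat.pow_le_pow_right (Fact.out : p.Prime).pos ?_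
  by_contra h2
  exact h1 (Nat.pow_le_pow_right (Fact.out : p.Prime).pos (show k ≤ 1 by omega) |>.trans_eq
    (pow_one p))

/-- For odd `p`, a non-cyclic `p`-group has a normal elementary abelian subgroup of order `p ^ 2`. -/
theorem exists_normal_elemAb_sq [Finite G] [Fact p.Prime] (hp : p ≠ 2) (hG : IsPGroup p G)
    (hnc : ¬ IsCyclic G) :
    ∃ E : Subgroup G, E.Normal ∧ Cfsg.IsElementaryAbelian p E ∧ Nat.card E = p ^ 2 := by
  obtain ⟨A, -, hAn, hA, hmax⟩ := exists_maximal_normal_abelian (⊥ : Subgroup G)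
    (Subgroup.le_centralizer_iff_isMulCommutative.mp (by simp))
  by_cases hAc : IsCyclic A
  · have hC := centralizer_eq_self_of_maximal hG hA hmax
    let f := QuotientGroup.mk' A
    have hne : (⊤ : Subgroup (G ⧸ A)) ≠ ⊥ := by
      intro h
      refine hnc ?_
      have : ∀ g : G, g ∈ A := fun g => by
        have h1 : f g ∈ (⊥ : Subgroup (G ⧸ A)) := h ▸ Subgroup.mem_top _
        exact (QuotientGroup.eq_one_iff g).mp h1
      obtain ⟨g, hg⟩ := (A.isCyclic_iff_exists_zpowers_eq_top).mp hAc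
      exact ⟨g, fun y => show y ∈ Subgroup.zpowers g from hg.symm ▸ this y⟩
    obtain ⟨Z, -, -, hZn, hZ⟩ := exists_central_card_prime (hG.to_quotient A) ⊤ hne
    have hBn : (Z.comap f).Normal := hZn.comap f
    have hAB : A ≤ Z.comap f := by
      intro x hx
      have h0 : f x = 1 := (QuotientGroup.eq_one_iff x).mpr hx
      rw [Subgroup.mem_comap, h0]
      exact Z.one_mem
    have hcard : Nat.card (Z.comap f) = Nat.card A * p := by
      have h1 : Nat.card (Z.comap f) = Nat.card A * Nat.card Z :=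
        QuotientGroup.card_preimage_mk A (Z : Set (G ⧸ A))
      rw [h1, hZ]
    have hBnc : ¬ IsCyclic (Z.comap f) := by
      intro hBc
      have := hmax _ hBn hBc.isMulCommutative hAB
      rw [this] at hcard
      have : 0 < Nat.card A := Nat.card_pos
      have := (Fact.out : p.Prime).one_lt
      nlinarith
    have hCi : (A.subgroupOf (Z.comap f)).index = p := by
      have h1 := Subgroup.card_mul_index (A.subgroupOf (Z.comap f))
      rw [Nat.card_congr (Subgroup.subgroupOfEquivOfLe hAB).toEquiv, hcard] at h1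
      exact Nat.eq_of_mul_eq_mul_left Nat.card_pos h1
    obtain ⟨E, hE, hEe, hEc⟩ := omega_of_cyclic_index_prime hp (hG.to_subgroup _) hBnc
      (isCyclic_of_surjective (Subgroup.subgroupOfEquivOfLe hAB).symm.toMonoidHom
        (Subgroup.subgroupOfEquivOfLe hAB).symm.surjective) hCi
    refine ⟨E.map (Z.comap f).subtype, ⟨fun x hx g => ?_⟩, elemAb_map _ hEe,
      by rw [Subgroup.card_map_of_injective (Z.comap f).subtype_injective, hEc]⟩
    obtain ⟨y, hy, rfl⟩ := hx
    refine ⟨⟨g * y * g⁻¹, hBn.conj_mem _ y.2 g⟩, (hE _).mpr (Subtype.ext ?_), rfl⟩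
    have := congrArg Subtype.val ((hE y).mp hy)
    simp only [SubmonoidClass.coe_pow, OneMemClass.coe_one] at this ⊢
    rw [conj_pow, this, mul_one, mul_inv_cancel]
  · have := omegaOne_normal (p := p) (K := A)
    obtain ⟨M, hMn, hM, hMc⟩ := exists_normal_le_card hG (Cfsg.omegaOne p A)
      (sq_le_card_omegaOne hA (hG.to_subgroup A) hAc)
    exact ⟨M, hMn, elemAb_mono (elemAb_omegaOne hA) hM, hMc⟩

/-- For odd `p`, a `p`-group with a unique subgroup of order `p` is cyclic. -/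
theorem isCyclic_of_unique_prime [Finite G] [Fact p.Prime] (hp : p ≠ 2) (hG : IsPGroup p G)
    (hu : ∀ x y : G, orderOf x = p → orderOf y = p → y ∈ Subgroup.zpowers x) : IsCyclic G := by
  by_contra hnc
  obtain ⟨E, -, hE, hEc⟩ := exists_normal_elemAb_sq hp hG hnc
  have hne : E ≠ ⊥ := by
    rintro rfl
    rw [Subgroup.card_bot] at hEc
    exact (Nat.one_lt_pow two_ne_zero (Fact.out : p.Prime).one_lt).ne hEc
  obtain ⟨x, hx, hxo⟩ := exists_orderOf_eq_prime_of_ne_bot (hG.to_subgroup E) hne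
  have hle : E ≤ Subgroup.zpowers x := by
    intro y hy
    rcases eq_or_ne y 1 with rfl | h1
    · exact one_mem _
    · exact hu x y hxo (elemAb_orderOf hE hy h1)
  exact not_isCyclic_of_elemAb_card le_rfl hE hEc (Subgroup.isCyclic_of_le hle)

/-- An element outside a cyclic self-centralising subgroup `⟨a⟩`, with square inside and normalising
it, inverts `a` and squares to the involution, when there are no involutions outside `⟨a⟩`. -/
theorem inverts_of_sq_mem [Finite G] {a x : G} {n : ℕ} (ha : orderOf a = 2 ^ (n + 1))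
    (hnorm : x * a * x⁻¹ ∈ Subgroup.zpowers a) (hx2 : x ^ 2 ∈ Subgroup.zpowers a)
    (hnc : x * a * x⁻¹ ≠ a)
    (hinv : ∀ y, y ^ 2 = 1 → y ∈ Subgroup.zpowers a) (hxa : x ∉ Subgroup.zpowers a) :
    x * a * x⁻¹ = a⁻¹ ∧ x ^ 2 = a ^ 2 ^ n := by
  obtain ⟨r, hr⟩ := Subgroup.mem_zpowers_iff.mp hnorm
  obtain ⟨s, hs⟩ := Subgroup.mem_zpowers_iff.mp hx2
  have key : ∀ k : ℤ, a ^ k = 1 ↔ ((2 : ℤ) ^ (n + 1)) ∣ k := fun k => by
    rw [← orderOf_dvd_iff_zpow_eq_one, ha]; norm_num
  have hpowx : ∀ k : ℤ, x * a ^ k * x⁻¹ = a ^ (r * k) := fun k => by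
    rw [← conj_zpow, ← hr, zpow_mul]
  -- `r ^ 2 ≡ 1`
  have hr2 : (2 : ℤ) ^ (n + 1) ∣ (r - 1) * (r + 1) := by
    rw [← key, show (r - 1) * (r + 1) = r * r - 1 by ring, zpow_sub, zpow_one, ← hpowx,
      mul_inv_eq_one]
    calc x * a ^ r * x⁻¹ = x * (x * a * x⁻¹) * x⁻¹ := by rw [hr]
      _ = x ^ 2 * a * (x ^ 2)⁻¹ := by rw [sq]; group
      _ = a := by rw [← hs]; group
  have hs1 : (2 : ℤ) ^ (n + 1) ∣ s * (r - 1) := by
    rw [← key, show s * (r - 1) = r * s - s by ring, zpow_sub, ← hpowx, mul_inv_eq_one, hs]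
    group
  have hr1 : ¬ (2 : ℤ) ^ (n + 1) ∣ r - 1 := by
    rw [← key, zpow_sub, zpow_one, mul_inv_eq_one, hr]
    exact hnc
  -- no `i` with `(a ^ i * x) ^ 2 = 1`
  have hno : ∀ i : ℤ, ¬ (2 : ℤ) ^ (n + 1) ∣ i * (1 + r) + s := by
    intro i hi
    rw [← key] at hi
    have : (a ^ i * x) ^ 2 = 1 := by
      rw [← hi, zpow_add, mul_add, mul_one, zpow_add, mul_comm i r, ← hpowx, hs, sq, sq]
      group
    have h1 := Subgroup.mul_mem _ (Subgroup.inv_mem _ (Subgroup.zpow_mem _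
      (Subgroup.mem_zpowers a) i)) (hinv _ this)
    exact hxa (by simpa using h1)
  have hodd : ¬ (2 : ℤ) ∣ r := by
    intro h2
    apply hr1
    have hcop : IsCoprime ((2 : ℤ) ^ (n + 1)) (r + 1) :=
      (Int.prime_two.coprime_iff_not_dvd.mpr (by omega)).pow_left
    exact hcop.dvd_of_dvd_mul_right hr2
  obtain ⟨q, rfl⟩ : ∃ q, r = 2 * q + 1 := ⟨r / 2, by omega⟩
  rcases Int.even_or_odd q with ⟨t, rfl⟩ | ⟨t, rfl⟩
  · -- `r ≡ 1 mod 4`: then `1 + r` is twice odd, so some `i` works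
    exfalso
    have hu : IsCoprime ((2 : ℤ) ^ n) (2 * t + 1) :=
      (Int.prime_two.coprime_iff_not_dvd.mpr (by omega)).pow_left
    have h2s : (2 : ℤ) ∣ s := by
      by_contra h
      have hcop : IsCoprime ((2 : ℤ) ^ (n + 1)) s :=
        (Int.prime_two.coprime_iff_not_dvd.mpr h).pow_left
      exact hr1 (hcop.dvd_of_dvd_mul_left hs1)
    obtain ⟨s', rfl⟩ := h2s
    obtain ⟨u, v, huv⟩ := hu
    refine hno (-(s' * v)) ⟨s' * u, ?_⟩
    rw [pow_succ]
    linear_combination (2 * s') * huv.symm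
  · -- `r ≡ 3 mod 4`
    have hu : IsCoprime ((2 : ℤ) ^ n) (2 * t + 1) :=
      (Int.prime_two.coprime_iff_not_dvd.mpr (by omega)).pow_left
    have hsn : (2 : ℤ) ^ n ∣ s := by
      refine hu.dvd_of_dvd_mul_right ((mul_dvd_mul_iff_left (two_ne_zero (α := ℤ))).mp ?_)
      rw [← pow_succ']
      exact hs1.trans (dvd_of_eq (by ring))
    have hs0 : ¬ (2 : ℤ) ^ (n + 1) ∣ s := fun h => hno 0 (by simpa using h)
    obtain ⟨s', rfl⟩ := hsn
    have hs'odd : ¬ (2 : ℤ) ∣ s' := fun ⟨w, hw⟩ => hs0 ⟨w, by rw [hw, pow_succ]; ring⟩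
    have hr' : (2 : ℤ) ^ (n + 1) ∣ 4 * (t + 1) := by
      by_contra hne
      -- the `2`-part of `1 + r` divides `2 ^ n`, so some `i` works
      obtain ⟨e, w, hw, hwe⟩ : ∃ (e : ℕ) (w : ℤ), ¬ (2 : ℤ) ∣ w ∧ 4 * (t + 1) = 2 ^ e * w := by
        have h0 : 4 * (t + 1) ≠ 0 := fun h => hne (h ▸ dvd_zero _)
        have hfin : FiniteMultiplicity (2 : ℤ) (4 * (t + 1)) :=
          FiniteMultiplicity.of_prime_left Int.prime_two h0
        obtain ⟨w, hw1, hw2⟩ := hfin.exists_eq_pow_mul_and_not_dvd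
        exact ⟨_, w, hw2, hw1⟩
      have hen : e ≤ n := by
        by_contra h
        exact hne (hwe ▸ Dvd.dvd.mul_right (pow_dvd_pow 2 (by omega)) w)
      obtain ⟨u, v, huv⟩ : IsCoprime ((2 : ℤ) ^ (n + 1)) w :=
        (Int.prime_two.coprime_iff_not_dvd.mpr hw).pow_left
      refine hno (-(s' * v * 2 ^ (n - e))) ⟨s' * u * 2 ^ n, ?_⟩
      have hsplit : (2 : ℤ) ^ n = 2 ^ (n - e) * 2 ^ e := by rw [← pow_add]; congr 1; omega
      have h1r : (1 : ℤ) + (2 * (2 * t + 1) + 1) = 2 ^ e * w := by rw [← hwe]; ring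
      rw [h1r]
      linear_combination (s' * 2 ^ n) * huv.symm + (s' * v * w) * hsplit
    constructor
    · rw [← hr, ← mul_inv_eq_one, inv_inv, ← zpow_add_one, key]
      exact hr'.trans (dvd_of_eq (by ring))
    · rw [← hs, ← zpow_natCast, ← mul_inv_eq_one, ← zpow_sub, key]
      obtain ⟨w, hw⟩ : (2 : ℤ) ∣ s' - 1 := by omega
      exact ⟨w, by push_cast; rw [pow_succ]; linear_combination (2 : ℤ) ^ n * hw⟩

/-- A `p`-group with a unique subgroup of order `p` is cyclic or generalised quaternion. -/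
theorem isCyclic_or_quaternion [Finite G] [Fact p.Prime] (hG : IsPGroup p G)
    (hu : ∀ x y : G, orderOf x = p → orderOf y = p → y ∈ Subgroup.zpowers x) :
    IsCyclic G ∨ (p = 2 ∧ ∃ n : ℕ, 1 ≤ n ∧ Nonempty (G ≃* QuaternionGroup (2 ^ n))) := by
  by_cases hp : p = 2
  swap
  · exact Or.inl (isCyclic_of_unique_prime hp hG hu)
  subst hp
  refine or_iff_not_imp_left.mpr fun hnc => ⟨rfl, ?_⟩
  obtain ⟨A, -, hAn, hA, hmax⟩ := exists_maximal_normal_abelian (⊥ : Subgroup G)
    (Subgroup.le_centralizer_iff_isMulCommutative.mp (by simp))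
  have hC := centralizer_eq_self_of_maximal hG hA hmax
  have hne : A ≠ ⊥ := by
    rintro rfl
    apply hnc
    have : ∀ g : G, g = 1 := fun g => Subgroup.mem_bot.mp
      (hC ▸ fun y hy => by rw [Subgroup.mem_bot.mp hy, one_mul, mul_one])
    exact ⟨1, fun g => ⟨0, by simp [this g]⟩⟩
  have hAc : IsCyclic A := by
    refine isCyclic_of_comm_omega hA (hG.to_subgroup A) ?_
    obtain ⟨z, hz, hzo⟩ := exists_orderOf_eq_prime_of_ne_bot (hG.to_subgroup A) hne
    refine (Subgroup.card_le_of_le (K := Subgroup.zpowers z) fun y hy => ?_).trans_eq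
      (by rw [Nat.card_zpowers, hzo])
    rcases eq_or_ne y 1 with rfl | h1
    · exact one_mem _
    · exact hu z y hzo (elemAb_orderOf (elemAb_omegaOne hA) hy h1)
  obtain ⟨a, ha⟩ := (A.isCyclic_iff_exists_zpowers_eq_top).mp hAc
  obtain ⟨n', hn'⟩ := IsPGroup.iff_card.mp (hG.to_subgroup A)
  obtain ⟨n, rfl⟩ : ∃ n, n' = n + 1 := by
    rcases n' with _ | n
    · exact absurd (Subgroup.eq_bot_of_card_eq A (by simpa using hn')) hne
    · exact ⟨n, rfl⟩
  have hord : orderOf a = 2 ^ (n + 1) := by rw [← Nat.card_zpowers, ha, hn']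
  have hinvA : ∀ y, y ^ 2 = 1 → y ∈ Subgroup.zpowers a := by
    intro y hy
    rcases eq_or_ne y 1 with rfl | h1
    · exact one_mem _
    · obtain ⟨z, hz, hzo⟩ := exists_orderOf_eq_prime_of_ne_bot (hG.to_subgroup A) hne
      exact ha ▸ Subgroup.zpowers_le.mpr hz (hu z y hzo (orderOf_eq_prime hy h1))
  have hself : ∀ x, x * a * x⁻¹ = a → x ∈ A := by
    intro x hx
    rw [← hC, Subgroup.mem_centralizer_iff]
    intro y hy
    obtain ⟨k, rfl⟩ := Subgroup.mem_zpowers_iff.mp (ha ▸ hy)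
    have hc : Commute x a := mul_inv_eq_iff_eq_mul.mp hx
    exact (hc.zpow_right k).eq.symm
  have haA : a ∈ A := ha ▸ Subgroup.mem_zpowers a
  have hin : ∀ x, x ∉ A → x ^ 2 ∈ A → x * a * x⁻¹ = a⁻¹ ∧ x ^ 2 = a ^ 2 ^ n := fun x hx hx2 =>
    inverts_of_sq_mem hord (ha ▸ hAn.conj_mem a haA x) (ha ▸ hx2) (fun h => hx (hself x h)) hinvA
      (ha ▸ hx)
  have hn1 : 1 ≤ n := by
    rcases Nat.eq_zero_or_pos n with rfl | h
    · exfalso
      obtain ⟨x, hxA⟩ : ∃ x, x ∉ A := by
        by_contra! h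
        exact hnc ⟨a, fun y => show y ∈ Subgroup.zpowers a from ha.symm ▸ h y⟩
      have hAZ : A ≤ Subgroup.center G := le_center_of_normal_card_prime hG A (by simpa using hn')
      exact hxA (hself x (by rw [Subgroup.mem_center_iff.mp (hAZ haA) x, mul_inv_cancel_right]))
    · exact h
  have hane : a⁻¹ ≠ a := by
    intro h
    have h2 : a ^ 2 = 1 := by rw [sq, mul_eq_one_iff_eq_inv, h]
    have := orderOf_dvd_of_pow_eq_one h2
    rw [hord, ← pow_one 2, ← pow_mul, Nat.pow_dvd_pow_iff_le_right one_lt_two] at this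
    omega
  have hsq : ∀ y, y ^ 2 ∈ A := by
    intro y
    by_contra hy
    classical
    have hex : ∃ k, y ^ 2 ^ k ∈ A := by
      obtain ⟨k, hk⟩ := hG y
      exact ⟨k, by rw [hk]; exact A.one_mem⟩
    obtain ⟨k, hk⟩ : ∃ k, Nat.find hex = k + 2 := by
      have := Nat.find_spec hex
      rcases hf : Nat.find hex with _ | _ | k
      · rw [hf, pow_zero, pow_one] at this; exact absurd (A.pow_mem this 2) hy
      · rw [hf, zero_add, pow_one] at this; exact absurd this hy
      · exact ⟨k, rfl⟩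
    set u := y ^ 2 ^ k with hu'
    have hu2 : u ^ 2 ∉ A := by
      rw [hu', ← pow_mul, ← pow_succ]
      exact Nat.find_min hex (by omega)
    have hu4 : (u ^ 2) ^ 2 ∈ A := by
      rw [hu', ← pow_mul, ← pow_mul, show 2 ^ k * (2 * 2) = 2 ^ (k + 2) by ring, ← hk]
      exact Nat.find_spec hex
    obtain ⟨h1, -⟩ := hin _ hu2 hu4
    obtain ⟨r, hr⟩ := Subgroup.mem_zpowers_iff.mp (ha ▸ hAn.conj_mem a haA u)
    have h2 : a ^ (r * r + 1) = 1 := by
      rw [zpow_add, zpow_one, zpow_mul, ← mul_eq_one_iff_eq_inv.mpr h1]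
      congr 1
      rw [hr, conj_zpow, hr, sq]
      group
    rw [← orderOf_dvd_iff_zpow_eq_one, hord] at h2
    have h4 : (4 : ℤ) ∣ r * r + 1 := by
      refine (Dvd.dvd.trans ?_ h2)
      push_cast
      exact (show (4 : ℤ) = 2 ^ 2 by norm_num) ▸ pow_dvd_pow 2 (by omega)
    rcases Int.even_or_odd r with ⟨t, rfl⟩ | ⟨t, rfl⟩
    · have : (2 : ℤ) ∣ (t + t) * (t + t) + 1 := (show (2 : ℤ) ∣ 4 by norm_num).trans h4
      rw [show (t + t) * (t + t) = 2 * (2 * t * t) by ring] at this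
      omega
    · rw [show (2 * t + 1) * (2 * t + 1) + 1 = 4 * (t * t + t) + 2 by ring] at h4
      omega
  obtain ⟨x, hxA⟩ : ∃ x, x ∉ A := by
    by_contra! h
    exact hnc ⟨a, fun y => show y ∈ Subgroup.zpowers a from ha.symm ▸ h y⟩
  obtain ⟨hxi, hxs⟩ := hin x hxA (hsq x)
  have hindex : A.index = 2 := by
    refine (Subgroup.index_eq_two_iff.mpr ⟨x, fun b => ?_⟩)
    by_cases hb : b ∈ A
    · refine Or.inr ⟨hb, fun h => hxA ?_⟩
      simpa using A.mul_mem (A.inv_mem hb) h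
    · refine Or.inl ⟨?_, hb⟩
      refine hself _ ?_
      obtain ⟨hbi, -⟩ := hin b hb (hsq b)
      calc b * x * a * (b * x)⁻¹ = b * (x * a * x⁻¹) * b⁻¹ := by group
        _ = (b * a * b⁻¹)⁻¹ := by rw [hxi]; group
        _ = a := by rw [hbi, inv_inv]
  refine ⟨n, hn1, ?_⟩
  have : NeZero (2 ^ n) := ⟨(pow_pos two_pos n).ne'⟩
  refine nonempty_quaternion_equiv (a := a) (x := x) (by rw [hord, pow_succ']) hxs hxi (ha ▸ hxA) ?_
  rw [← A.card_mul_index, hindex, hn', pow_succ]
  ring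

end Cfsg.Agent.Lib.PGroups
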