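import Mathlib.GroupTheory.Sylow
import Cfsg.Prelude.Def_Transfer
import Cfsg.Agent.Lib.PGroups.ElemAb

/-!
# The Thompson subgroup

`Cfsg.thompsonSubgroup p P` is the join of the elementary abelian subgroups of largest order;
`Cfsg.thompsonSubgroupOf p P` is its image in the ambient group.
-/

namespace Cfsg.Agent.Lib.PGroups

open Subgroup

variable {G H : Type*} [Group G] [Group H] {p : ℕ} {P Q : Subgroup G}

/-- The elementary abelian subgroups of largest order below `P`, as subgroups of the ambient group. -/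
def maxElemAbIn (p : ℕ) (P : Subgroup G) : Set (Subgroup G) :=
  {A | A ≤ P ∧ Cfsg.IsElementaryAbelian p A ∧
    ∀ B : Subgroup G, B ≤ P → Cfsg.IsElementaryAbelian p B → Nat.card B ≤ Nat.card A}

theorem thompsonSubgroupOf_eq (p : ℕ) (P : Subgroup G) :
    Cfsg.thompsonSubgroupOf p P = sSup (maxElemAbIn p P) := by
  have himg : maxElemAbIn p P =
      (Subgroup.map P.subtype) '' Cfsg.maxElementaryAbelianSubgroups p P := by
    ext A
    constructor
    · rintro ⟨hAP, hA, hmax⟩
      refine ⟨A.subgroupOf P, ⟨elemAb_subgroupOf hA P, fun B hB => ?_⟩,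
        Subgroup.map_subgroupOf_eq_of_le hAP⟩
      have h := hmax _ (Subgroup.map_subtype_le B) (elemAb_map P.subtype hB)
      rwa [Subgroup.card_map_of_injective P.subtype_injective,
        ← Subgroup.map_subgroupOf_eq_of_le hAP,
        Subgroup.card_map_of_injective P.subtype_injective] at h
    · rintro ⟨A', ⟨hA, hmax⟩, rfl⟩
      refine ⟨Subgroup.map_subtype_le A', elemAb_map P.subtype hA, fun B hBP hB => ?_⟩
      have h := hmax _ (elemAb_subgroupOf hB P)
      rw [← Subgroup.map_subgroupOf_eq_of_le hBP,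
        Subgroup.card_map_of_injective P.subtype_injective,
        Subgroup.card_map_of_injective P.subtype_injective]
      exact h
  rw [himg, sSup_image, Cfsg.thompsonSubgroupOf, Cfsg.thompsonSubgroup,
    (Subgroup.gc_map_comap P.subtype).l_sSup]

theorem maxElemAbIn_nonempty [Finite G] (p : ℕ) (P : Subgroup G) :
    (maxElemAbIn p P).Nonempty := by
  obtain ⟨A, ⟨hAP, hA⟩, hmax⟩ :=
    Set.exists_max_image {A : Subgroup G | A ≤ P ∧ Cfsg.IsElementaryAbelian p A}
      (fun A => Nat.card A) (Set.toFinite _) ⟨⊥, bot_le, elemAb_bot⟩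
  exact ⟨A, hAP, hA, fun B h1 h2 => hmax B ⟨h1, h2⟩⟩

theorem le_thompsonSubgroupOf {A : Subgroup G} (hA : A ∈ maxElemAbIn p P) :
    A ≤ Cfsg.thompsonSubgroupOf p P :=
  (thompsonSubgroupOf_eq p P).symm ▸ le_sSup hA

theorem thompsonSubgroupOf_le (p : ℕ) (P : Subgroup G) : Cfsg.thompsonSubgroupOf p P ≤ P :=
  Subgroup.map_subtype_le _

theorem centerThompsonOf_le (p : ℕ) (P : Subgroup G) : Cfsg.centerThompsonOf p P ≤ P :=
  inf_le_left.trans (thompsonSubgroupOf_le p P)

theorem centerThompsonOf_le_thompson (p : ℕ) (P : Subgroup G) :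
    Cfsg.centerThompsonOf p P ≤ Cfsg.thompsonSubgroupOf p P :=
  inf_le_left

theorem map_maxElemAbIn (f : G →* H) (hf : Function.Injective f) (P : Subgroup G) :
    maxElemAbIn p (P.map f) = (Subgroup.map f) '' maxElemAbIn p P := by
  ext A
  constructor
  · rintro ⟨hAP, hA, hmax⟩
    have hA' : (A.comap f).map f = A :=
      Subgroup.map_comap_eq_self (hAP.trans (Subgroup.map_le_range f P))
    refine ⟨A.comap f, ⟨fun x hx => ?_, elemAb_comap f hf hA, fun B hBP hB => ?_⟩, hA'⟩
    · obtain ⟨y, hy, hyx⟩ := hAP hx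
      exact hf hyx ▸ hy
    · have h := hmax _ (Subgroup.map_mono hBP) (elemAb_map f hB)
      rw [← hA'] at h
      rwa [Subgroup.card_map_of_injective hf, Subgroup.card_map_of_injective hf] at h
  · rintro ⟨A', ⟨hAP, hA, hmax⟩, rfl⟩
    refine ⟨Subgroup.map_mono hAP, elemAb_map f hA, fun B hBP hB => ?_⟩
    have hB' : (B.comap f).map f = B :=
      Subgroup.map_comap_eq_self (hBP.trans (Subgroup.map_le_range f P))
    have h := hmax (B.comap f) (fun x hx => ?_) (elemAb_comap f hf hB)
    · rw [← hB', Subgroup.card_map_of_injective hf, Subgroup.card_map_of_injective hf]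
      exact h
    · obtain ⟨y, hy, hyx⟩ := hBP hx
      exact hf hyx ▸ hy

theorem map_thompsonSubgroupOf (f : G →* H) (hf : Function.Injective f) (P : Subgroup G) :
    (Cfsg.thompsonSubgroupOf p P).map f = Cfsg.thompsonSubgroupOf p (P.map f) := by
  rw [thompsonSubgroupOf_eq, thompsonSubgroupOf_eq, map_maxElemAbIn f hf, sSup_image,
    (Subgroup.gc_map_comap f).l_sSup]

theorem thompsonSubgroupOf_conj (g : G) (P : Subgroup G) :
    (Cfsg.thompsonSubgroupOf p P).map (MulAut.conj g).toMonoidHom =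
      Cfsg.thompsonSubgroupOf p (P.map (MulAut.conj g).toMonoidHom) :=
  map_thompsonSubgroupOf _ (MulAut.conj g).injective P

theorem map_inf_centralizer_of_injective (f : G →* H) (hf : Function.Injective f)
    (P : Subgroup G) :
    (P ⊓ Subgroup.centralizer (P : Set G)).map f =
      P.map f ⊓ Subgroup.centralizer ((P.map f : Subgroup H) : Set H) := by
  ext y
  constructor
  · rintro ⟨x, ⟨hxP, hxc⟩, rfl⟩
    refine ⟨Subgroup.mem_map_of_mem f hxP, ?_⟩
    rintro _ ⟨z, hz, rfl⟩
    rw [← map_mul, ← map_mul, hxc z hz]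
  · rintro ⟨⟨x, hxP, rfl⟩, hc⟩
    exact ⟨x, ⟨hxP, fun z hz => hf (by rw [map_mul, map_mul]; exact hc _ ⟨z, hz, rfl⟩)⟩, rfl⟩

theorem map_centerThompsonOf (f : G →* H) (hf : Function.Injective f) (P : Subgroup G) :
    (Cfsg.centerThompsonOf p P).map f = Cfsg.centerThompsonOf p (P.map f) := by
  rw [Cfsg.centerThompsonOf, Cfsg.centerThompsonOf, map_inf_centralizer_of_injective f hf,
    map_thompsonSubgroupOf f hf]

theorem mem_normalizer_of_map_conj_eq {P : Subgroup G} {g : G}
    (h : P.map (MulAut.conj g).toMonoidHom = P) : g ∈ Subgroup.normalizer (P : Set G) := by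
  refine Subgroup.mem_normalizer_iff.mpr fun x => ⟨fun hx => ?_, fun hx => ?_⟩
  · rw [← h]
    exact ⟨x, hx, rfl⟩
  · rw [← h] at hx
    obtain ⟨y, hy, hyx⟩ := hx
    have : y = x := (MulAut.conj g).injective hyx
    exact this ▸ hy

theorem map_conj_eq_of_mem_normalizer {P : Subgroup G} {g : G}
    (h : g ∈ Subgroup.normalizer (P : Set G)) : P.map (MulAut.conj g).toMonoidHom = P := by
  ext y
  constructor
  · rintro ⟨x, hx, rfl⟩
    exact (Subgroup.mem_normalizer_iff.mp h x).mp hx
  · intro hy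
    exact ⟨g⁻¹ * y * g, (Subgroup.mem_normalizer_iff''.mp h y).mp hy,
      by simp [mul_assoc]⟩

theorem normalizer_le_normalizer_thompson (P : Subgroup G) :
    Subgroup.normalizer (P : Set G) ≤
      Subgroup.normalizer (Cfsg.thompsonSubgroupOf p P : Set G) := fun g hg =>
  mem_normalizer_of_map_conj_eq (by
    rw [thompsonSubgroupOf_conj, map_conj_eq_of_mem_normalizer hg])

theorem normalizer_le_normalizer_centerThompson (P : Subgroup G) :
    Subgroup.normalizer (P : Set G) ≤
      Subgroup.normalizer (Cfsg.centerThompsonOf p P : Set G) := fun g hg =>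
  mem_normalizer_of_map_conj_eq (by
    rw [map_centerThompsonOf _ (MulAut.conj g).injective, map_conj_eq_of_mem_normalizer hg])

theorem normalizer_thompson_le_normalizer_centerThompson (P : Subgroup G) :
    Subgroup.normalizer (Cfsg.thompsonSubgroupOf p P : Set G) ≤
      Subgroup.normalizer (Cfsg.centerThompsonOf p P : Set G) := fun g hg =>
  mem_normalizer_of_map_conj_eq (by
    rw [Cfsg.centerThompsonOf, map_inf_centralizer_of_injective _ (MulAut.conj g).injective,
      map_conj_eq_of_mem_normalizer hg])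

instance thompsonSubgroup_characteristic : (Cfsg.thompsonSubgroup p G).Characteristic := by
  rw [Subgroup.characteristic_iff_map_eq]
  intro φ
  have hT : Cfsg.thompsonSubgroupOf p (⊤ : Subgroup G) = Cfsg.thompsonSubgroup p G := by
    rw [thompsonSubgroupOf_eq, Cfsg.thompsonSubgroup]
    congr 1
    ext A
    exact ⟨fun h => ⟨h.2.1, fun B hB => h.2.2 B le_top hB⟩,
      fun h => ⟨le_top, h.1, fun B _ hB => h.2 B hB⟩⟩
  rw [← hT, map_thompsonSubgroupOf _ φ.injective, Subgroup.map_top_of_surjective _ φ.surjective]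

/-- If one member of largest order in `P` lies in `Q ≤ P`, the families are nested. -/
theorem maxElemAbIn_mono (hQP : Q ≤ P) {A : Subgroup G} (hA : A ∈ maxElemAbIn p P) (hAQ : A ≤ Q) :
    maxElemAbIn p Q ⊆ maxElemAbIn p P := by
  rintro B ⟨hBQ, hB, hmax⟩
  exact ⟨hBQ.trans hQP, hB, fun C hC hC' => (hA.2.2 C hC hC').trans (hmax A hAQ hA.2.1)⟩

/-- `J(Q) ≤ J(P)` when `Q ≤ P` contains a member of largest order. -/
theorem thompsonSubgroupOf_mono (hQP : Q ≤ P) {A : Subgroup G} (hA : A ∈ maxElemAbIn p P)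
    (hAQ : A ≤ Q) : Cfsg.thompsonSubgroupOf p Q ≤ Cfsg.thompsonSubgroupOf p P := by
  rw [thompsonSubgroupOf_eq, thompsonSubgroupOf_eq]
  exact sSup_le_sSup (maxElemAbIn_mono hQP hA hAQ)

/-- `J(Q) = J(P)` when `J(P) ≤ Q ≤ P`. -/
theorem thompsonSubgroupOf_eq_of_le [Finite G] (hQP : Q ≤ P)
    (hJ : Cfsg.thompsonSubgroupOf p P ≤ Q) :
    Cfsg.thompsonSubgroupOf p Q = Cfsg.thompsonSubgroupOf p P := by
  obtain ⟨A, hA⟩ := maxElemAbIn_nonempty p P
  have hAQ := (le_thompsonSubgroupOf hA).trans hJ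
  refine le_antisymm (thompsonSubgroupOf_mono hQP hA hAQ) ?_
  rw [thompsonSubgroupOf_eq, thompsonSubgroupOf_eq]
  refine sSup_le_sSup fun B hB => ?_
  exact ⟨(le_thompsonSubgroupOf hB).trans hJ, hB.2.1, fun C hC hC' => hB.2.2 C (hC.trans hQP) hC'⟩

/-- Elements of `Ω₁(Z(P))` lie in every member of largest order, and centralise `J(P)`. -/
theorem mem_centerThompsonOf_of_center [Finite G] [Fact p.Prime] {x : G} (hxP : x ∈ P)
    (hxc : ∀ y ∈ P, x * y = y * x) (hxp : x ^ p = 1) : x ∈ Cfsg.centerThompsonOf p P := by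
  obtain ⟨A, hA⟩ := maxElemAbIn_nonempty p P
  refine ⟨le_thompsonSubgroupOf hA ?_, ?_⟩
  · by_contra hxA
    have hE : Cfsg.IsElementaryAbelian p (A ⊔ Subgroup.zpowers x) := by
      refine elemAb_sup hA.2.1 (elemAb_zpowers hxp) fun a ha b hb => ?_
      obtain ⟨k, rfl⟩ := hb
      exact Commute.zpow_right (hxc a (hA.1 ha)).symm k
    have h1 := card_mul_le_card_of_mem (le_sup_left : A ≤ A ⊔ Subgroup.zpowers x)
      (elemAb_isPGroup hE) (le_sup_right (a := A) (Subgroup.mem_zpowers x)) hxA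
    have h2 := hA.2.2 _ (sup_le hA.1 (Subgroup.zpowers_le.mpr hxP)) hE
    have h3 := (Fact.out : p.Prime).one_lt
    have h4 : 0 < Nat.card A := Nat.card_pos
    nlinarith
  · intro y hy
    exact (hxc y (thompsonSubgroupOf_le p P hy)).symm

end Cfsg.Agent.Lib.PGroups
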