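import Mathlib.GroupTheory.Sylow
import Mathlib.GroupTheory.Frattini
import Mathlib.GroupTheory.Nilpotent
import Mathlib.GroupTheory.Abelianization.Defs
import Mathlib.GroupTheory.SpecificGroups.Cyclic
import Mathlib.Data.Set.Finite.Lemmas
import Mathlib.RingTheory.Int.Basic
import Mathlib.RingTheory.Coprime.Lemmas
import Cfsg.Prelude.Def_Transfer
import Cfsg.Agent.Lib.PGroups.ElemAb

/-!
# The Frattini subgroup of a finite `p`-group
-/

namespace Cfsg.Agent.Lib.PGroups

open Subgroup
open scoped commutatorElement

variable {G : Type*} [Group G] [Finite G] {p : ℕ} [Fact p.Prime]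

theorem isCoatomic_subgroup : IsCoatomic (Subgroup G) := inferInstance

/-- Maximal subgroups of a finite `p`-group are normal. -/
theorem coatom_normal (hG : IsPGroup p G) {M : Subgroup G} (hM : IsCoatom M) : M.Normal := by
  have := hG.isNilpotent
  exact NormalizerCondition.normal_of_coatom _ Group.normalizerCondition_of_isNilpotent hM

/-- Maximal subgroups of a finite `p`-group have index `p`. -/
theorem coatom_index (hG : IsPGroup p G) {M : Subgroup G} (hM : IsCoatom M) : M.index = p := by
  have := coatom_normal hG hM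
  have hne : M.index ≠ 1 := fun h => hM.1 (Subgroup.index_eq_one.mp h)
  obtain ⟨n, hn⟩ := hG.index M
  have hn0 : n ≠ 0 := by rintro rfl; exact hne (by simpa using hn)
  rw [Subgroup.index_eq_card] at hn ⊢
  obtain ⟨K, hK⟩ := Sylow.exists_subgroup_card_pow_prime (G := G ⧸ M) p (n := 1)
    (hn ▸ pow_dvd_pow p (by omega))
  rw [pow_one] at hK
  have hlt : M < K.comap (QuotientGroup.mk' M) := by
    refine lt_of_le_of_ne ?_ fun he => ?_
    · intro x hx
      have h0 : QuotientGroup.mk' M x = 1 := (QuotientGroup.eq_one_iff x).mpr hx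
      rw [Subgroup.mem_comap, h0]
      exact K.one_mem
    · have h1 : (K.comap (QuotientGroup.mk' M)).map (QuotientGroup.mk' M) = K :=
        Subgroup.map_comap_eq_self_of_surjective (QuotientGroup.mk'_surjective M) K
      rw [← he, QuotientGroup.map_mk'_self] at h1
      rw [← h1, Subgroup.card_bot] at hK
      exact (Fact.out : p.Prime).one_lt.ne hK
  have htop := hM.2 _ hlt
  have hKtop : K = ⊤ := by
    rw [← Subgroup.map_comap_eq_self_of_surjective (QuotientGroup.mk'_surjective M) K, htop,
      Subgroup.map_top_of_surjective _ (QuotientGroup.mk'_surjective M)]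
  rwa [hKtop, Subgroup.card_top] at hK

theorem pow_mem_frattini (hG : IsPGroup p G) (x : G) : x ^ p ∈ frattini G := by
  simp only [frattini, Order.radical, Subgroup.mem_iInf]
  intro M hM
  have hM' : IsCoatom M := hM
  have := coatom_normal hG hM'
  have := M.pow_index_mem x
  rwa [coatom_index hG hM'] at this

theorem commutator_le_frattini (hG : IsPGroup p G) : commutator G ≤ frattini G := by
  simp only [frattini, Order.radical, le_iInf_iff]
  intro M hM
  have hM' : IsCoatom M := hM
  have := coatom_normal hG hM'
  have hcard : Nat.card (G ⧸ M) = p := by rw [← Subgroup.index_eq_card, coatom_index hG hM']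
  have hc : IsCyclic (G ⧸ M) := isCyclic_of_prime_card hcard
  exact Subgroup.Normal.quotient_commutative_iff_commutator_le.mp
    (inferInstance : IsMulCommutative (G ⧸ M))

theorem commutatorElement_mem_frattini (hG : IsPGroup p G) (x y : G) :
    ⁅x, y⁆ ∈ frattini G :=
  commutator_le_frattini hG (Subgroup.commutator_mem_commutator (Subgroup.mem_top x)
    (Subgroup.mem_top y))

/-- A normal subgroup with elementary abelian quotient contains the Frattini subgroup. -/
theorem frattini_le_of_pow_commutator (N : Subgroup G) [hN : N.Normal]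
    (hpow : ∀ x : G, x ^ p ∈ N) (hcomm : commutator G ≤ N) : frattini G ≤ N := by
  intro v hv
  by_contra hvN
  obtain ⟨M, ⟨hNM, hvM⟩, hmax⟩ :=
    (Set.toFinite {M : Subgroup G | N ≤ M ∧ v ∉ M}).exists_maximal ⟨N, le_rfl, hvN⟩
  have hMn : M.Normal := ⟨fun x hx g => by
    have : g * x * g⁻¹ * x⁻¹ ∈ M := hNM (hcomm (Subgroup.commutator_mem_commutator
      (Subgroup.mem_top g) (Subgroup.mem_top x)))
    simpa using M.mul_mem this hx⟩
  have hco : IsCoatom M := by
    refine ⟨fun h => hvM (h ▸ Subgroup.mem_top v), fun K hK => ?_⟩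
    have hvK : v ∈ K := by
      by_contra h
      exact hK.not_ge (hmax ⟨hNM.trans hK.le, h⟩ hK.le)
    refine eq_top_iff.mpr fun w _ => ?_
    by_contra hwK
    have hvMw : v ∈ M ⊔ Subgroup.zpowers w := by
      by_contra h
      exact hwK (hK.le ((hmax ⟨hNM.trans le_sup_left, h⟩ le_sup_left)
        (le_sup_right (a := M) (Subgroup.mem_zpowers w))))
    obtain ⟨a, ha, b, ⟨k, rfl⟩, hab⟩ := Subgroup.mem_sup_of_normal_left.mp hvMw
    simp only at hab
    have hwk : w ^ k ∈ K := by
      have := K.mul_mem (K.inv_mem (hK.le ha)) (hab ▸ hvK)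
      simpa using this
    have hwp : w ^ (p : ℤ) ∈ K := by
      rw [zpow_natCast]
      exact hK.le (hNM (hpow w))
    by_cases hk : (p : ℤ) ∣ k
    · obtain ⟨c, rfl⟩ := hk
      refine hvM (hab ▸ M.mul_mem ha ?_)
      rw [zpow_mul, zpow_natCast]
      exact M.zpow_mem (hNM (hpow w)) c
    · obtain ⟨s, t, hst⟩ :=
        ((Nat.prime_iff_prime_int.mp (Fact.out : p.Prime)).coprime_iff_not_dvd.mpr hk).symm
      refine hwK ?_
      have h := K.mul_mem (K.zpow_mem hwk s) (K.zpow_mem hwp t)
      rwa [← zpow_mul, ← zpow_mul, ← zpow_add, mul_comm k, mul_comm (p : ℤ), hst, zpow_one] at h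
  exact hvM ((frattini_le_coatom hco) hv)

theorem frattini_eq_sup (hG : IsPGroup p G) :
    frattini G = commutator G ⊔ Subgroup.closure (Set.range fun x : G => x ^ p) := by
  refine le_antisymm ?_ (sup_le (commutator_le_frattini hG) ((Subgroup.closure_le _).mpr ?_))
  · have hn : (commutator G ⊔ Subgroup.closure (Set.range fun x : G => x ^ p)).Normal :=
      ⟨fun x hx g => by
        have h1 : g * x * g⁻¹ * x⁻¹ ∈ commutator G :=
          Subgroup.commutator_mem_commutator (Subgroup.mem_top g) (Subgroup.mem_top x)
        simpa using Subgroup.mul_mem _ (le_sup_left (b := Subgroup.closure _) h1) hx⟩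
    exact frattini_le_of_pow_commutator _
      (fun x => le_sup_right (a := commutator G) (Subgroup.subset_closure ⟨x, rfl⟩)) le_sup_left
  · rintro _ ⟨x, rfl⟩
    exact pow_mem_frattini hG x

/-- The Frattini quotient of a finite `p`-group is elementary abelian. -/
theorem frattiniQuotient_elemAb (hG : IsPGroup p G) :
    Cfsg.IsElementaryAbelian p (⊤ : Subgroup (G ⧸ frattini G)) := by
  refine elemAb_mk ?_ ?_
  · intro a _ b _
    have hc : IsMulCommutative (G ⧸ frattini G) :=
      Subgroup.Normal.quotient_commutative_iff_commutator_le.mpr (commutator_le_frattini (p := p) hG)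
    exact hc.is_comm.comm a b
  · intro a _
    obtain ⟨x, rfl⟩ := QuotientGroup.mk_surjective a
    rw [← QuotientGroup.mk_pow]
    exact (QuotientGroup.eq_one_iff _).mpr (pow_mem_frattini hG x)

theorem frattini_eq_bot_iff (hG : IsPGroup p G) :
    frattini G = ⊥ ↔ Cfsg.IsElementaryAbelian p (⊤ : Subgroup G) := by
  constructor
  · intro h
    refine elemAb_mk (fun a _ b _ => ?_) fun a _ => ?_
    · have := commutatorElement_mem_frattini hG a b
      rwa [h, Subgroup.mem_bot, commutatorElement_eq_one_iff_mul_comm] at this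
    · have := pow_mem_frattini hG a
      rwa [h, Subgroup.mem_bot] at this
  · intro h
    refine le_bot_iff.mp (frattini_le_of_pow_commutator (p := p) ⊥ (fun x => ?_) ?_)
    · exact Subgroup.mem_bot.mpr (elemAb_pow h (Subgroup.mem_top x))
    · rw [commutator_def, Subgroup.commutator_le]
      intro a ha b hb
      exact Subgroup.mem_bot.mpr (commutatorElement_eq_one_iff_mul_comm.mpr (elemAb_comm h ha hb))

/-- Burnside basis theorem: generators modulo the Frattini subgroup generate. -/
theorem closure_eq_top_of_sup_frattini {s : Set G}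
    (h : Subgroup.closure s ⊔ frattini G = ⊤) : Subgroup.closure s = ⊤ :=
  frattini_nongenerating h

/-- A finite `p`-group with cyclic quotient by a subgroup of the Frattini subgroup is cyclic. -/
theorem isCyclic_of_quotient_le_frattini (N : Subgroup G) [N.Normal] (hN : N ≤ frattini G)
    [hc : IsCyclic (G ⧸ N)] : IsCyclic G := by
  obtain ⟨g, hg⟩ := hc.exists_generator
  obtain ⟨x, rfl⟩ := QuotientGroup.mk_surjective g
  refine ⟨x, fun y => ?_⟩
  have htop : Subgroup.closure {x} ⊔ frattini G = ⊤ := by
    refine eq_top_iff.mpr fun y _ => ?_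
    obtain ⟨k, hk⟩ := hg y
    simp only [← QuotientGroup.mk_zpow] at hk
    have h1 : (x ^ k)⁻¹ * y ∈ frattini G := hN (QuotientGroup.eq.mp hk)
    have h2 := Subgroup.mul_mem (Subgroup.closure {x} ⊔ frattini G)
      (le_sup_left (b := frattini G) (Subgroup.zpow_mem _ (Subgroup.mem_closure_singleton_self x) k))
      (le_sup_right (a := Subgroup.closure {x}) h1)
    simpa using h2
  have h := closure_eq_top_of_sup_frattini htop
  have : y ∈ Subgroup.closure {x} := h ▸ Subgroup.mem_top y
  exact Subgroup.mem_closure_singleton.mp this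

/-- A finite `p`-group whose abelianization is cyclic is cyclic. -/
theorem isCyclic_of_cyclic_quotient_commutator (hG : IsPGroup p G)
    [IsCyclic (G ⧸ commutator G)] : IsCyclic G :=
  isCyclic_of_quotient_le_frattini _ (commutator_le_frattini hG)

end Cfsg.Agent.Lib.PGroups
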