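import Mathlib.GroupTheory.Sylow
import Mathlib.GroupTheory.Nilpotent
import Mathlib.GroupTheory.IndexNormal
import Mathlib.GroupTheory.SpecificGroups.KleinFour
import Cfsg.Agent.Lib.PGroups.Omega
import Cfsg.Agent.Lib.PGroups.Frattini
import Cfsg.Agent.Lib.PGroups.Recognition

/-!
# `p`-groups of maximal class; `2`-groups with derived factor group of order four
-/

namespace Cfsg.Agent.Lib.PGroups

open Subgroup
open scoped commutatorElement

universe u
variable {X : Type u} [Group X] {p : ℕ}

theorem card_quotient_mul (N : Subgroup X) : Nat.card (X ⧸ N) * Nat.card N = Nat.card X := by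
  rw [← Subgroup.index_eq_card, mul_comm, Subgroup.card_mul_index]

/-- A group with trivial derived subgroup is commutative. -/
theorem isMulCommutative_of_commutator_eq_bot (h : commutator X = ⊥) : IsMulCommutative X :=
  ⟨⟨fun a b => commutatorElement_eq_one_iff_mul_comm.mp (Subgroup.mem_bot.mp
    (h ▸ Subgroup.commutator_mem_commutator (Subgroup.mem_top a) (Subgroup.mem_top b)))⟩⟩

theorem nilpotencyClass_le_one_of_comm [Group.IsNilpotent X] (h : IsMulCommutative X) :
    Group.nilpotencyClass X ≤ 1 :=
  Group.IsNilpotent.nilpotencyClass_le_one_iff.mpr h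

/-- The class of a group of order `p ^ n` is at most `n - 1` unless it is commutative. -/
theorem nilpotencyClass_le_pred [Fact p.Prime] : ∀ (n : ℕ) {X : Type u} [Group X] [Finite X]
    [Group.IsNilpotent X],
    Nat.card X = p ^ n → ¬ IsMulCommutative X → Group.nilpotencyClass X + 1 ≤ n := by
  intro n
  induction n using Nat.strong_induction_on with
  | _ n ih =>
    intro X _ _ _ hX hnc
    have hp := (Fact.out : p.Prime)
    have hG : IsPGroup p X := IsPGroup.of_card hX
    have : Nontrivial X := by
      by_contra h
      rw [not_nontrivial_iff_subsingleton] at h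
      exact hnc ⟨⟨fun a b => Subsingleton.elim _ _⟩⟩
    obtain ⟨m, hm⟩ := IsPGroup.iff_card.mp (hG.to_quotient (Subgroup.center X))
    obtain ⟨k, hk⟩ := IsPGroup.iff_card.mp (hG.to_subgroup (Subgroup.center X))
    have hmk : m + k = n := by
      refine Nat.pow_right_injective hp.two_le ?_
      show p ^ (m + k) = p ^ n
      rw [pow_add, ← hm, ← hk, card_quotient_mul, hX]
    have hk1 : 1 ≤ k := by
      rcases Nat.eq_zero_or_pos k with rfl | h
      · have := hG.center_nontrivial
        have h2 := Finite.one_lt_card (α := Subgroup.center X)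
        rw [hk, pow_zero] at h2
        omega
      · exact h
    have hm2 : 2 ≤ m := by
      by_contra h
      refine hnc ⟨⟨fun a b => ?_⟩⟩
      have : IsCyclic (X ⧸ Subgroup.center X) := by
        rcases Nat.lt_or_ge m 1 with h0 | h0
        · obtain rfl : m = 0 := by omega
          have : Subsingleton (X ⧸ Subgroup.center X) :=
            (Nat.card_eq_one_iff_unique.mp (by simpa using hm)).1
          infer_instance
        · obtain rfl : m = 1 := by omega
          exact isCyclic_of_prime_card (by simpa using hm)
      exact commutative_of_cyclic_center_quotient (QuotientGroup.mk' (Subgroup.center X))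
        (QuotientGroup.ker_mk' _).le a b
    rw [Group.nilpotencyClass_eq_quotient_center_plus_one]
    rcases Classical.em (IsMulCommutative (X ⧸ Subgroup.center X)) with hc | hc
    · have := nilpotencyClass_le_one_of_comm hc
      omega
    · have := ih m (by omega) hm hc
      omega

/-- Maximal class: the centre has order `p` and the central quotient has maximal class. -/
theorem center_quotient_of_class [Fact p.Prime] [Finite X] [Group.IsNilpotent X] {n : ℕ}
    (hn : 3 ≤ n) (hX : Nat.card X = p ^ n) (hc : Group.nilpotencyClass X = n - 1) :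
    Nat.card (Subgroup.center X) = p ∧ Nat.card (X ⧸ Subgroup.center X) = p ^ (n - 1) ∧
      Group.nilpotencyClass (X ⧸ Subgroup.center X) = n - 2 := by
  have hp := (Fact.out : p.Prime)
  have hG : IsPGroup p X := IsPGroup.of_card hX
  have hnc : ¬ IsMulCommutative X := fun h => by
    have := nilpotencyClass_le_one_of_comm h
    omega
  have : Nontrivial X := by
    by_contra h
    rw [not_nontrivial_iff_subsingleton] at h
    exact hnc ⟨⟨fun a b => Subsingleton.elim _ _⟩⟩
  have hQ := Group.nilpotencyClass_eq_quotient_center_plus_one (G := X)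
  rw [hc] at hQ
  obtain ⟨m, hm⟩ := IsPGroup.iff_card.mp (hG.to_quotient (Subgroup.center X))
  obtain ⟨k, hk⟩ := IsPGroup.iff_card.mp (hG.to_subgroup (Subgroup.center X))
  have hmk : m + k = n := by
    refine Nat.pow_right_injective hp.two_le ?_
    show p ^ (m + k) = p ^ n
    rw [pow_add, ← hm, ← hk, card_quotient_mul, hX]
  have hk1 : 1 ≤ k := by
    rcases Nat.eq_zero_or_pos k with rfl | h
    · have := hG.center_nontrivial
      have h2 := Finite.one_lt_card (α := Subgroup.center X)
      rw [hk, pow_zero] at h2
      omega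
    · exact h
  have hm2 : n - 1 ≤ m := by
    rcases Classical.em (IsMulCommutative (X ⧸ Subgroup.center X)) with h | h
    · have h1 := nilpotencyClass_le_one_of_comm h
      have hn3 : n = 3 := by omega
      by_contra hlt
      refine hnc ⟨⟨fun a b => ?_⟩⟩
      have : IsCyclic (X ⧸ Subgroup.center X) := by
        rcases Nat.lt_or_ge m 1 with h0 | h0
        · obtain rfl : m = 0 := by omega
          have : Subsingleton (X ⧸ Subgroup.center X) :=
            (Nat.card_eq_one_iff_unique.mp (by simpa using hm)).1
          infer_instance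
        · obtain rfl : m = 1 := by omega
          exact isCyclic_of_prime_card (by simpa using hm)
      exact commutative_of_cyclic_center_quotient (QuotientGroup.mk' (Subgroup.center X))
        (QuotientGroup.ker_mk' _).le a b
    · have := nilpotencyClass_le_pred m hm h
      omega
  obtain rfl : k = 1 := by omega
  refine ⟨by rw [hk, pow_one], ?_, by omega⟩
  rw [hm, show m = n - 1 by omega]

theorem index_commutator_eq_of_le [Finite X] (N : Subgroup X) [N.Normal] (hN : N ≤ commutator X) :
    (commutator (X ⧸ N)).index = (commutator X).index := by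
  have h : (commutator X).map (QuotientGroup.mk' N) = commutator (X ⧸ N) := by
    rw [commutator_def, commutator_def, Subgroup.map_commutator,
      Subgroup.map_top_of_surjective _ (QuotientGroup.mk'_surjective N)]
  rw [← h, Subgroup.index_map_eq _ (QuotientGroup.mk'_surjective N)
    (by rwa [QuotientGroup.ker_mk'])]

theorem commutator_ne_bot_of_noncomm (h : ¬ IsMulCommutative X) : commutator X ≠ ⊥ := fun h' =>
  h (isMulCommutative_of_commutator_eq_bot h')

/-- Maximal class forces derived factor group of order `p ^ 2`. -/
theorem index_commutator_of_class [Fact p.Prime] : ∀ (n : ℕ) {X : Type u} [Group X] [Finite X]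
    [Group.IsNilpotent X], 2 ≤ n →
    Nat.card X = p ^ n → Group.nilpotencyClass X = n - 1 → (commutator X).index = p ^ 2 := by
  intro n
  induction n using Nat.strong_induction_on with
  | _ n ih =>
    intro X _ _ _ hn hX hc
    rcases Nat.lt_or_ge n 3 with h3 | h3
    · obtain rfl : n = 2 := by omega
      have hab := IsPGroup.isMulCommutative_of_card_eq_prime_sq hX
      have : commutator X = ⊥ := by
        rw [eq_bot_iff, commutator_def, Subgroup.commutator_le]
        exact fun a _ b _ => Subgroup.mem_bot.mpr
          (commutatorElement_eq_one_iff_mul_comm.mpr (hab.is_comm.comm a b))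
      rw [this, Subgroup.index_bot, hX]
    · obtain ⟨hZ, hQ, hQc⟩ := center_quotient_of_class h3 hX hc
      have hnc : ¬ IsMulCommutative X := fun h => by
        have := nilpotencyClass_le_one_of_comm h
        omega
      have hle : Subgroup.center X ≤ commutator X := by
        have hne := normal_inf_center_ne_bot (IsPGroup.of_card hX) _ (commutator_ne_bot_of_noncomm hnc)
        have hd := Subgroup.card_dvd_of_le
          (inf_le_right : commutator X ⊓ Subgroup.center X ≤ Subgroup.center X)
        rw [hZ] at hd
        rcases (Nat.dvd_prime (Fact.out : p.Prime)).mp hd with h | h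
        · exact absurd (Subgroup.eq_bot_of_card_eq _ h) hne
        · exact (Subgroup.eq_of_le_of_card_ge inf_le_right (by rw [h, hZ])).symm.le.trans inf_le_left
      rw [← index_commutator_eq_of_le _ hle]
      exact ih (n - 1) (by omega) (by omega) hQ (by omega)

/-- A subgroup of order `p ^ 2` equal to its centraliser forces maximal class. -/
theorem class_of_self_centralizing_sq [Fact p.Prime] : ∀ (n : ℕ) {X : Type u} [Group X] [Finite X]
    [Group.IsNilpotent X] (A : Subgroup X),
    Nat.card X = p ^ n → Nat.card A = p ^ 2 → Subgroup.centralizer (A : Set X) = A →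
    Group.nilpotencyClass X = n - 1 := by
  intro n
  induction n using Nat.strong_induction_on with
  | _ n ih =>
    intro X _ _ _ A hX hA hC
    have hp := (Fact.out : p.Prime)
    have hG : IsPGroup p X := IsPGroup.of_card hX
    have hn2 : 2 ≤ n := (Nat.pow_le_pow_iff_right hp.one_lt).mp
      (hA ▸ hX ▸ Subgroup.card_le_card_group A)
    have hX1 : 1 < Nat.card X := hX ▸ Nat.one_lt_pow (by omega) hp.one_lt
    have : Nontrivial X := Finite.one_lt_card_iff_nontrivial.mp hX1
    rcases Nat.lt_or_ge n 3 with h3 | h3
    · obtain rfl : n = 2 := by omega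
      have hab := IsPGroup.isMulCommutative_of_card_eq_prime_sq hX
      have h1 := nilpotencyClass_le_one_of_comm hab
      have h2 : Group.nilpotencyClass X ≠ 0 := fun h => by
        have := Group.nilpotencyClass_zero_iff_subsingleton.mp h
        exact not_subsingleton X this
      omega
    · have hAC : Subgroup.center X ≤ A := hC ▸ Subgroup.center_le_centralizer _
      have hAn : Nat.card A < Nat.card X := by
        rw [hA, hX]
        exact Nat.pow_lt_pow_right hp.one_lt (by omega)
      have hZne : Subgroup.center X ≠ A := by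
        intro he
        have : Subgroup.centralizer (A : Set X) = ⊤ := eq_top_iff.mpr fun x _ y hy =>
          (Subgroup.mem_center_iff.mp (he.symm ▸ hy) x).symm
        rw [hC] at this
        rw [this, Subgroup.card_top] at hAn
        exact lt_irrefl _ hAn
      obtain ⟨k, hk⟩ := IsPGroup.iff_card.mp (hG.to_subgroup (Subgroup.center X))
      have hk1 : k = 1 := by
        have hkpos : k ≠ 0 := fun h0 => by
          have := hG.center_nontrivial
          have h1 := Finite.one_lt_card (α := Subgroup.center X)
          rw [hk, h0, pow_zero] at h1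
          omega
        have hk2 : k ≤ 2 := (Nat.pow_le_pow_iff_right hp.one_lt).mp
          (hk ▸ hA ▸ Subgroup.card_le_of_le hAC)
        by_contra h
        exact hZne (Subgroup.eq_of_le_of_card_ge hAC (by rw [hA, hk, show k = 2 by omega]))
      subst hk1
      rw [pow_one] at hk
      set Q := X ⧸ Subgroup.center X
      let f : X →* Q := QuotientGroup.mk' _
      have hQ : Nat.card Q = p ^ (n - 1) := by
        have h := card_quotient_mul (Subgroup.center X)
        rw [hk, hX, show n = n - 1 + 1 by omega, pow_succ] at h
        exact Nat.eq_of_mul_eq_mul_right hp.pos h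
      set N := Subgroup.normalizer (A : Set X) with hN
      have hAN : A ≤ N := Subgroup.le_normalizer
      -- `N(A)` has order `p ^ 3`
      obtain ⟨j, hj⟩ := IsPGroup.iff_card.mp (hG.to_subgroup N)
      have hNlt : A < N := Group.normalizerCondition_of_isNilpotent A
        (lt_top_iff_ne_top.mpr fun h => by rw [h, Subgroup.card_top] at hAn; exact lt_irrefl _ hAn)
      obtain ⟨w, hw, hwZ⟩ : ∃ w ∈ A, w ∉ Subgroup.center X :=
        SetLike.exists_of_lt (lt_of_le_of_ne hAC hZne)
      have hsup : A = Subgroup.center X ⊔ Subgroup.zpowers w := by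
        refine (Subgroup.eq_of_le_of_card_ge (sup_le hAC (Subgroup.zpowers_le.mpr hw)) ?_).symm
        rw [hA, sq]
        have h1 := card_mul_le_card_of_mem (p := p) (A := Subgroup.center X)
          (B := Subgroup.center X ⊔ Subgroup.zpowers w) le_sup_left (hG.to_subgroup _)
          (le_sup_right (a := Subgroup.center X) (Subgroup.mem_zpowers w)) hwZ
        rwa [hk] at h1
      have hAf : Nat.card (A.map f) = p := by
        have h := Subgroup.card_mul_index (f.domRestrict A).ker
        rw [Subgroup.index_ker, MonoidHom.domRestrict_range, MonoidHom.ker_domRestrict,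
          QuotientGroup.ker_mk', Nat.card_congr (Subgroup.subgroupOfEquivOfLe hAC).toEquiv, hk,
          hA, sq] at h
        exact Nat.eq_of_mul_eq_mul_left hp.pos h
      have hwcomm : ∀ g ∈ N, ⁅g, w⁆ ∈ Subgroup.center X := by
        intro g hg
        have hnorm : (A.map f).subgroupOf (N.map f) |>.Normal :=
          (Subgroup.normal_subgroupOf_iff (Subgroup.map_mono hAN)).mpr fun x k hx hk => by
            obtain ⟨x, hx, rfl⟩ := hx
            obtain ⟨k, hk, rfl⟩ := hk
            exact ⟨k * x * k⁻¹, (Subgroup.mem_normalizer_iff.mp hk x).mp hx, by simp⟩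
        have hcen := le_center_of_normal_card_prime (p := p)
          ((hG.to_quotient _).to_subgroup (N.map f)) ((A.map f).subgroupOf (N.map f))
          (by rw [Nat.card_congr (Subgroup.subgroupOfEquivOfLe (Subgroup.map_mono hAN)).toEquiv, hAf])
        have h := Subgroup.mem_center_iff.mp
          (hcen (show (⟨f w, Subgroup.mem_map_of_mem f (hAN hw)⟩ : N.map f) ∈ _ from
            ⟨w, hw, rfl⟩)) ⟨f g, Subgroup.mem_map_of_mem f hg⟩
        have h' : f g * f w = f w * f g := congrArg Subtype.val h
        refine (QuotientGroup.eq_one_iff (N := Subgroup.center X) _).mp ?_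
        show f ⁅g, w⁆ = 1
        rw [map_commutatorElement, commutatorElement_eq_one_iff_mul_comm]
        exact h'
      have hNle : Nat.card N ≤ p ^ 3 := by
        rw [← Subgroup.card_mul_index (A.subgroupOf N),
          Nat.card_congr (Subgroup.subgroupOfEquivOfLe hAN).toEquiv, hA,
          show p ^ 3 = p ^ 2 * p by ring]
        refine Nat.mul_le_mul_left _ ?_
        rw [Subgroup.index_eq_card, ← hk]
        refine Nat.card_le_card_of_injective
          (fun q => (⟨⁅((Quotient.out q : N) : X), w⁆, hwcomm _ (Quotient.out q).2⟩ :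
            Subgroup.center X)) ?_
        intro q₁ q₂ hq
        have hq' : ⁅((Quotient.out q₁ : N) : X), w⁆ = ⁅((Quotient.out q₂ : N) : X), w⁆ :=
          congrArg Subtype.val hq
        rw [← QuotientGroup.out_eq' q₁, ← QuotientGroup.out_eq' q₂, QuotientGroup.eq,
          Subgroup.mem_subgroupOf, Subgroup.coe_mul, Subgroup.coe_inv]
        generalize ((Quotient.out q₁ : N) : X) = a at hq' ⊢
        generalize ((Quotient.out q₂ : N) : X) = b at hq' ⊢
        simp only [commutatorElement_def, mul_left_inj] at hq'
        have hle : A ≤ Subgroup.centralizer ({a⁻¹ * b} : Set X) := by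
          rw [hsup]
          refine sup_le (Subgroup.center_le_centralizer _) (Subgroup.zpowers_le.mpr ?_)
          rw [Subgroup.mem_centralizer_singleton_iff]
          calc w * (a⁻¹ * b) = a⁻¹ * (a * w * a⁻¹) * b := by group
            _ = a⁻¹ * b * w := by rw [hq']; group
        rw [← hC]
        exact fun y hy => Subgroup.mem_centralizer_singleton_iff.mp (hle hy)
      obtain rfl : j = 3 := by
        have h1 : 2 < j := (Nat.pow_lt_pow_iff_right hp.one_lt).mp (by
          rw [← hA, ← hj]
          exact lt_of_le_of_ne (Subgroup.card_le_of_le hNlt.le)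
            fun he => hNlt.ne (Subgroup.eq_of_le_of_card_ge hNlt.le he.ge))
        have h2 : j ≤ 3 := (Nat.pow_le_pow_iff_right hp.one_lt).mp (hj ▸ hNle)
        omega
      have hZN : Subgroup.center X ≤ N := hAC.trans hAN
      have hB : Nat.card (N.map f) = p ^ 2 := by
        have h := Subgroup.card_mul_index (f.domRestrict N).ker
        rw [Subgroup.index_ker, MonoidHom.domRestrict_range, MonoidHom.ker_domRestrict,
          QuotientGroup.ker_mk', Nat.card_congr (Subgroup.subgroupOfEquivOfLe hZN).toEquiv, hk,
          hj, show p ^ 3 = p * p ^ 2 by ring] at h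
        exact Nat.eq_of_mul_eq_mul_left hp.pos h
      have hBC : Subgroup.centralizer (N.map f : Set Q) = N.map f := by
        refine le_antisymm (fun x hx => ?_) (Subgroup.le_centralizer_iff_isMulCommutative.mpr
          (IsPGroup.isMulCommutative_of_card_eq_prime_sq hB))
        obtain ⟨g, rfl⟩ := QuotientGroup.mk'_surjective _ x
        refine ⟨g, ?_, rfl⟩
        have hle : A ≤ A.comap (MulAut.conj g).toMonoidHom := by
          intro a ha
          show g * a * g⁻¹ ∈ A
          have h : f ⁅g, a⁆ = 1 := by
            rw [map_commutatorElement, commutatorElement_eq_one_iff_mul_comm]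
            exact (hx (f a) ⟨a, hAN ha, rfl⟩).symm
          rw [show g * a * g⁻¹ = ⁅g, a⁆ * a by rw [commutatorElement_def]; group]
          exact A.mul_mem (hAC ((QuotientGroup.eq_one_iff _).mp h)) ha
        have he : A.map (MulAut.conj g).toMonoidHom = A :=
          Subgroup.eq_of_le_of_card_ge (Subgroup.map_le_iff_le_comap.mpr hle)
            (Subgroup.card_map_of_injective (MulAut.conj g).injective).ge
        refine Subgroup.mem_normalizer_iff.mpr fun y => ⟨fun hy => hle hy, fun hy => ?_⟩
        rw [← he] at hy
        obtain ⟨y', hy', hyy⟩ := hy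
        exact (MulAut.conj g).injective hyy ▸ hy'
      rw [Group.nilpotencyClass_eq_quotient_center_plus_one,
        ih (n - 1) (by omega) (N.map f) hQ hB hBC]
      omega

/-- In a `2`-group with an abelian subgroup `C` of index two and derived factor group of order four,
an element outside `C` fixes exactly two elements of `C`. -/
theorem card_fixed_eq_two [Finite X] (C : Subgroup X) (hC : IsMulCommutative C) (hCi : C.index = 2)
    (hX : (commutator X).index = 4) (t : X) (ht : t ∉ C) :
    Nat.card (C ⊓ Subgroup.centralizer ({t} : Set X) : Subgroup X) = 2 := by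
  have hCn : C.Normal := Subgroup.normal_of_index_eq_two hCi
  have hcomm : ∀ x ∈ C, ∀ y ∈ C, x * y = y * x := fun x hx y hy => by
    have := hC
    exact setLike_mul_comm hx hy
  have hout : ∀ x, x ∉ C → t⁻¹ * x ∈ C := fun x hx => by
    rw [Subgroup.mul_mem_iff_of_index_two hCi, Subgroup.inv_mem_iff]
    exact iff_of_false ht hx
  have hmem : ∀ c : C, ⁅t, (c : X)⁆ ∈ C := fun c => by
    rw [commutatorElement_def]
    exact C.mul_mem (hCn.conj_mem c c.2 t) (C.inv_mem c.2)
  let δ : C →* X := MonoidHom.mk' (fun c => ⁅t, (c : X)⁆) fun a b => by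
    show ⁅t, ((a * b : C) : X)⁆ = ⁅t, (a : X)⁆ * ⁅t, (b : X)⁆
    rw [Subgroup.coe_mul, commutatorElement_def t ((a : X) * b), commutatorElement_def t (a : X)]
    have h1 : ⁅t, (b : X)⁆ * (a : X)⁻¹ = (a : X)⁻¹ * ⁅t, (b : X)⁆ :=
      hcomm _ (hmem b) _ (C.inv_mem a.2)
    calc t * ((a : X) * b) * t⁻¹ * ((a : X) * b)⁻¹
        = t * a * t⁻¹ * (⁅t, (b : X)⁆ * (a : X)⁻¹) := by rw [commutatorElement_def]; group
      _ = t * a * t⁻¹ * (a : X)⁻¹ * ⁅t, (b : X)⁆ := by rw [h1, ← mul_assoc]
  have ht2 : t * t ∈ C := by
    rw [← sq]
    exact hCi ▸ C.pow_index_mem t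
  have hDn : δ.range.Normal := by
    refine ⟨fun x hx g => ?_⟩
    obtain ⟨c, rfl⟩ := hx
    by_cases hg : g ∈ C
    · rw [show g * δ c * g⁻¹ = δ c by
        rw [hcomm g hg (δ c) (hmem c), mul_inv_cancel_right]]
      exact ⟨c, rfl⟩
    · refine ⟨⟨t * c * t⁻¹, hCn.conj_mem c c.2 t⟩, ?_⟩
      have hg' : g = t * (t⁻¹ * g) := by group
      have h1 : (t⁻¹ * g) * δ c * (t⁻¹ * g)⁻¹ = δ c := by
        rw [hcomm _ (hout g hg) (δ c) (hmem c), mul_inv_cancel_right]
      calc δ ⟨t * c * t⁻¹, hCn.conj_mem c c.2 t⟩ = t * δ c * t⁻¹ := by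
            show ⁅t, t * (c : X) * t⁻¹⁆ = t * ⁅t, (c : X)⁆ * t⁻¹
            simp only [commutatorElement_def]
            group
        _ = g * δ c * g⁻¹ := by
            conv_rhs => rw [hg']
            conv_lhs => rw [← h1]
            group
  have hle : commutator X ≤ δ.range := by
    rw [_root_.commutator_def, Subgroup.commutator_le]
    let f := QuotientGroup.mk' δ.range
    have htc : ∀ c ∈ C, Commute (f t) (f c) := fun c hc => by
      show f t * f c = f c * f t
      rw [← commutatorElement_eq_one_iff_mul_comm, ← map_commutatorElement]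
      exact (QuotientGroup.eq_one_iff _).mpr ⟨⟨c, hc⟩, rfl⟩
    have hgen : ∀ x, ∀ c ∈ C, Commute (f x) (f c) := fun x c hc => by
      by_cases hx : x ∈ C
      · exact (show Commute x c from hcomm x hx c hc).map f
      · rw [show x = t * (t⁻¹ * x) by group, map_mul]
        exact (htc c hc).mul_left ((show Commute _ c from hcomm _ (hout x hx) c hc).map f)
    have hgent : ∀ x, Commute (f x) (f t) := fun x => by
      by_cases hx : x ∈ C
      · exact (htc x hx).symm
      · rw [show x = t * (t⁻¹ * x) by group, map_mul]
        exact (Commute.refl _).mul_left (htc _ (hout x hx)).symm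
    intro x _ y _
    refine (QuotientGroup.eq_one_iff (N := δ.range) _).mp ?_
    show f ⁅x, y⁆ = 1
    rw [map_commutatorElement, commutatorElement_eq_one_iff_mul_comm]
    by_cases hy : y ∈ C
    · exact hgen x y hy
    · rw [show y = t * (t⁻¹ * y) by group, map_mul]
      exact (hgent x).mul_right (hgen x _ (hout y hy))
  have hge : δ.range ≤ commutator X := by
    rintro _ ⟨c, rfl⟩
    exact Subgroup.commutator_mem_commutator (Subgroup.mem_top t) (Subgroup.mem_top _)
  have hD : δ.range = commutator X := le_antisymm hge hle
  have hk : Nat.card δ.ker = 2 := by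
    have h1 := Subgroup.card_mul_index δ.ker
    rw [Subgroup.index_ker, hD] at h1
    have h2 := Subgroup.card_mul_index (commutator X)
    have h3 := Subgroup.card_mul_index C
    rw [hX] at h2
    rw [hCi] at h3
    have hpos : 0 < Nat.card (commutator X) := Nat.card_pos
    nlinarith
  rw [← hk, Nat.card_congr (δ.ker.equivMapOfInjective C.subtype C.subtype_injective).toEquiv]
  congr 2
  ext x
  constructor
  · intro hx
    refine ⟨⟨x, hx.1⟩, ?_, rfl⟩
    exact commutatorElement_eq_one_iff_mul_comm.mpr
      (Subgroup.mem_centralizer_singleton_iff.mp hx.2).symm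
  · rintro ⟨c, hc, rfl⟩
    exact ⟨c.2, Subgroup.mem_centralizer_singleton_iff.mpr
      (commutatorElement_eq_one_iff_mul_comm.mp hc).symm⟩

/-- Elements `c * (t c t⁻¹)` are fixed by `t`. -/
theorem mul_conj_mem_fixed (C : Subgroup X) [hn : C.Normal] (hC : IsMulCommutative C) {t : X}
    (ht : t * t ∈ C) {c : X} (hc : c ∈ C) :
    c * (t * c * t⁻¹) ∈ C ⊓ Subgroup.centralizer ({t} : Set X) := by
  have hc' := hn.conj_mem c hc t
  refine ⟨C.mul_mem hc hc', Subgroup.mem_centralizer_singleton_iff.mpr ?_⟩
  have := hC
  have h1 : (t * t) * c * (t * t)⁻¹ = c := by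
    rw [setLike_mul_comm ht hc, mul_inv_cancel_right]
  have h2 : c * (t * c * t⁻¹) = t * c * t⁻¹ * c := setLike_mul_comm hc hc'
  calc c * (t * c * t⁻¹) * t = c * t * c := by group
    _ = t * ((t⁻¹ * c * t) * c) := by group
    _ = t * ((t * c * t⁻¹) * c) := by
        have h3 : t⁻¹ * c * t = t * c * t⁻¹ := by
          calc t⁻¹ * c * t = t⁻¹ * ((t * t) * c * (t * t)⁻¹) * t := by rw [h1]
            _ = t * c * t⁻¹ := by group
        rw [h3]
    _ = t * (c * (t * c * t⁻¹)) := by rw [← h2]

/-- A `2`-group of order `≥ 8` with derived factor group of order four has a cyclic subgroup of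
index two. -/
theorem exists_cyclic_index_two : ∀ (n : ℕ) {X : Type u} [Group X] [Finite X], 3 ≤ n →
    Nat.card X = 2 ^ n → (commutator X).index = 4 → ∃ C : Subgroup X, IsCyclic C ∧ C.index = 2 := by
  intro n
  induction n with
  | zero => intro X _ _ hn; omega
  | succ n ih =>
    intro X _ _ hn hX hd
    have hfact : Fact (Nat.Prime 2) := ⟨Nat.prime_two⟩
    have hG : IsPGroup 2 X := IsPGroup.of_card hX
    have hne : commutator X ≠ ⊥ := by
      intro h
      rw [h, Subgroup.index_bot, hX, show (4 : ℕ) = 2 ^ 2 by norm_num] at hd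
      have := Nat.pow_right_injective le_rfl hd
      omega
    obtain ⟨Z, hZX, hZc, hZn, hZ⟩ := exists_central_card_prime hG _ hne
    let f := QuotientGroup.mk' Z
    have hQd : (commutator (X ⧸ Z)).index = 4 := by rw [index_commutator_eq_of_le Z hZX, hd]
    have hQ : Nat.card (X ⧸ Z) = 2 ^ n := by
      have h := card_quotient_mul Z
      rw [hZ, hX, pow_succ] at h
      exact Nat.eq_of_mul_eq_mul_right two_pos h
    rcases Nat.lt_or_ge n 3 with h3 | h3
    · obtain rfl : n = 2 := by omega
      obtain ⟨a, ha⟩ : ∃ a : X, a ^ 2 ≠ 1 := by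
        by_contra! h
        apply hne
        rw [eq_bot_iff, commutator_def, Subgroup.commutator_le]
        intro a _ b _
        rw [Subgroup.mem_bot, commutatorElement_eq_one_iff_mul_comm]
        have hinv : ∀ x : X, x⁻¹ = x := fun x => inv_eq_of_mul_eq_one_right (by rw [← sq, h])
        rw [← hinv (a * b), mul_inv_rev, hinv, hinv]
      obtain ⟨k, hk⟩ := IsPGroup.iff_orderOf.mp hG a
      have hk3 : k ≤ 3 := (Nat.pow_dvd_pow_iff_le_right one_lt_two).mp (by
        rw [← hk]
        exact (orderOf_dvd_natCard a).trans (dvd_of_eq hX))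
      have hk2 : 2 ≤ k := by
        by_contra h
        apply ha
        rw [← orderOf_dvd_iff_pow_eq_one, hk]
        exact (pow_dvd_pow 2 (show k ≤ 1 by omega)).trans (dvd_of_eq (pow_one 2))
      rcases Nat.lt_or_ge k 3 with h | h
      · obtain rfl : k = 2 := by omega
        refine ⟨Subgroup.zpowers a, inferInstance, ?_⟩
        have h1 := (Subgroup.zpowers a).card_mul_index
        rw [Nat.card_zpowers, hk, hX] at h1
        norm_num at h1
        omega
      · obtain rfl : k = 3 := by omega
        exfalso
        apply hne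
        have htop : Subgroup.zpowers a = ⊤ :=
          Subgroup.eq_top_of_le_card _ (by rw [Nat.card_zpowers, hk, hX])
        rw [eq_bot_iff, commutator_def, Subgroup.commutator_le]
        intro x hx y hy
        rw [← htop] at hx hy
        obtain ⟨i, rfl⟩ := hx
        obtain ⟨j, rfl⟩ := hy
        exact Subgroup.mem_bot.mpr (commutatorElement_eq_one_iff_mul_comm.mpr
          ((Commute.refl a).zpow_zpow i j).eq)
    · obtain ⟨D, hDc, hDi⟩ := ih h3 hQ hQd
      set C := D.comap f with hCdef
      have hCi : C.index = 2 := by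
        rw [hCdef, Subgroup.index_comap_of_surjective _ (QuotientGroup.mk'_surjective Z), hDi]
      have hZC : Z ≤ C := fun z hz => by
        have h0 : f z = 1 := (QuotientGroup.eq_one_iff z).mpr hz
        rw [hCdef, Subgroup.mem_comap, h0]
        exact D.one_mem
      obtain ⟨g, hg⟩ := (D.isCyclic_iff_exists_zpowers_eq_top).mp hDc
      obtain ⟨a, rfl⟩ := QuotientGroup.mk'_surjective Z g
      have hCle : ∀ c ∈ C, ∃ k : ℤ, ∃ z ∈ Z, c = a ^ k * z := fun c hc => by
        obtain ⟨k, hk⟩ := Subgroup.mem_zpowers_iff.mp (hg.symm ▸ hc : f c ∈ Subgroup.zpowers (f a))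
        rw [← map_zpow] at hk
        exact ⟨k, (a ^ k)⁻¹ * c, QuotientGroup.eq.mp hk, by group⟩
      have haC : a ∈ C := by
        show f a ∈ D
        exact hg ▸ Subgroup.mem_zpowers _
      have hCc : IsMulCommutative C := ⟨⟨fun x y => Subtype.ext (by
        obtain ⟨i, z, hz, hx⟩ := hCle x x.2
        obtain ⟨j, w, hw, hy⟩ := hCle y y.2
        show (x : X) * y = y * x
        rw [hx, hy]
        have hzc : ∀ g : X, Commute z g := fun g => (Subgroup.mem_center_iff.mp (hZc hz) g).symm
        have hwc : ∀ g : X, Commute w g := fun g => (Subgroup.mem_center_iff.mp (hZc hw) g).symm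
        exact ((((Commute.refl a).zpow_zpow i j).mul_right (hwc _).symm).mul_left
          ((hzc _).mul_right (hzc _))).eq)⟩⟩
      refine ⟨C, ?_, hCi⟩
      by_cases hza : Z ≤ Subgroup.zpowers a
      · have hle : C ≤ Subgroup.zpowers a := fun c hc => by
          obtain ⟨k, z, hz, rfl⟩ := hCle c hc
          exact Subgroup.mul_mem _ (Subgroup.zpow_mem _ (Subgroup.mem_zpowers a) k) (hza hz)
        exact Subgroup.isCyclic_of_le hle
      · exfalso
        obtain ⟨t, ht⟩ : ∃ t, t ∉ C := by
          by_contra! h
          have : C = ⊤ := eq_top_iff.mpr fun x _ => h x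
          rw [this, Subgroup.index_top] at hCi
          omega
        have hF := card_fixed_eq_two C hCc hCi hd t ht
        have hCn : C.Normal := Subgroup.normal_of_index_eq_two hCi
        have hFZ : Z = C ⊓ Subgroup.centralizer ({t} : Set X) :=
          Subgroup.eq_of_le_of_card_ge (le_inf hZC (hZc.trans (Subgroup.center_le_centralizer _)))
            (by rw [hF, hZ])
        have hinv : t * a ^ 2 * t⁻¹ = (a ^ 2)⁻¹ := by
          have h1 := hFZ.symm.le
            (mul_conj_mem_fixed C hCc (by rw [← sq]; exact hCi ▸ C.pow_index_mem t) haC)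
          have hz2 : ∀ z ∈ Z, z ^ 2 = 1 := fun z hz => by
            have := pow_card_eq_one' (G := Z) (x := ⟨z, hz⟩)
            rw [hZ] at this
            exact congrArg Subtype.val this
          have h2 := hz2 _ h1
          have hc : Commute a (t * a * t⁻¹) := by
            have := hCc
            exact setLike_mul_comm haC (hCn.conj_mem a haC t)
          rw [hc.mul_pow, conj_pow] at h2
          exact eq_inv_of_mul_eq_one_right h2
        have hord : ∃ m, orderOf a = 2 ^ (m + 2) := by
          obtain ⟨k, hk⟩ := IsPGroup.iff_orderOf.mp hG a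
          have hD : Nat.card D ≤ orderOf a := by
            rw [← hg, Nat.card_zpowers]
            exact Nat.le_of_dvd (orderOf_pos a) (orderOf_map_dvd f a)
          have h1 := D.card_mul_index
          rw [hDi, hQ] at h1
          rcases k with _ | _ | k
          · have : 2 ^ 3 ≤ 2 ^ n := Nat.pow_le_pow_right two_pos h3
            rw [hk, pow_zero] at hD
            omega
          · have : 2 ^ 3 ≤ 2 ^ n := Nat.pow_le_pow_right two_pos h3
            rw [hk, zero_add, pow_one] at hD
            omega
          · exact ⟨k, hk⟩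
        obtain ⟨m, hm⟩ := hord
        set u := a ^ 2 ^ (m + 1) with hu
        have huo : orderOf u = 2 := by
          rw [hu, orderOf_pow' a (pow_pos two_pos _).ne', hm,
            Nat.gcd_eq_right (pow_dvd_pow 2 (by omega)), show m + 2 = m + 1 + 1 by ring, pow_succ,
            Nat.mul_div_cancel_left _ (pow_pos two_pos _)]
        have huZ : u ∈ Z := by
          rw [hFZ]
          refine ⟨C.pow_mem haC _, Subgroup.mem_centralizer_singleton_iff.mpr ?_⟩
          have h1 : t * u * t⁻¹ = u⁻¹ := by
            rw [hu, pow_succ' 2, pow_mul, ← conj_pow, hinv, inv_pow]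
          have h2 : u⁻¹ = u := inv_eq_of_mul_eq_one_right (by
            rw [← sq]; exact huo ▸ pow_orderOf_eq_one u)
          rw [h2] at h1
          exact (mul_inv_eq_iff_eq_mul.mp h1).symm
        have hu1 : u ≠ 1 := fun h => by rw [h, orderOf_one] at huo; omega
        refine hza ?_
        have h1 : Subgroup.zpowers u = Z := Subgroup.eq_of_le_of_card_ge
          (Subgroup.zpowers_le.mpr huZ) (by rw [hZ, Nat.card_zpowers, huo])
        rw [← h1, hu]
        exact Subgroup.zpowers_le.mpr (Subgroup.pow_mem _ (Subgroup.mem_zpowers a) _)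

/-- Structure of a `2`-group of order `≥ 8` with derived factor group of order four: the centre has
order two, and is the fixed subgroup of any outer element on the cyclic subgroup of index two. -/
theorem center_eq_fixed [Finite X] {n : ℕ} (hn : 3 ≤ n) (hX : Nat.card X = 2 ^ n)
    (hd : (commutator X).index = 4) (C : Subgroup X) (hC : IsCyclic C) (hCi : C.index = 2)
    (t : X) (ht : t ∉ C) :
    Subgroup.center X = C ⊓ Subgroup.centralizer ({t} : Set X) := by
  have hCc : IsMulCommutative C := hC.isMulCommutative
  have hcomm : ∀ x ∈ C, ∀ y ∈ C, Commute x y := fun x hx y hy => setLike_mul_comm hx hy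
  have hout : ∀ u x, u ∉ C → x ∉ C → u⁻¹ * x ∈ C := fun u x hu hx => by
    rw [Subgroup.mul_mem_iff_of_index_two hCi, Subgroup.inv_mem_iff]
    exact iff_of_false hu hx
  apply le_antisymm
  · intro z hz
    refine ⟨?_, Subgroup.mem_centralizer_singleton_iff.mpr (Subgroup.mem_center_iff.mp hz t).symm⟩
    by_contra hzC
    have hne : commutator X ≠ ⊥ := by
      intro h
      rw [h, Subgroup.index_bot, hX, show (4 : ℕ) = 2 ^ 2 by norm_num] at hd
      have := Nat.pow_right_injective le_rfl hd
      omega
    apply hne
    rw [eq_bot_iff, commutator_def, Subgroup.commutator_le]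
    intro x _ y _
    rw [Subgroup.mem_bot, commutatorElement_eq_one_iff_mul_comm]
    have hzc : ∀ g, Commute z g := fun g => (Subgroup.mem_center_iff.mp hz g).symm
    have key : ∀ x, ∀ c ∈ C, Commute x c := fun x c hc => by
      by_cases hx : x ∈ C
      · exact hcomm x hx c hc
      · rw [show x = z * (z⁻¹ * x) by group]
        exact (hzc c).mul_left (hcomm _ (hout z x hzC hx) c hc)
    by_cases hy : y ∈ C
    · exact key x y hy
    · rw [show y = z * (z⁻¹ * y) by group]
      exact ((hzc x).symm.mul_right (key x _ (hout z y hzC hy))).eq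
  · intro z hz
    rw [Subgroup.mem_center_iff]
    intro g
    have hzt : Commute t z := (Subgroup.mem_centralizer_singleton_iff.mp hz.2).symm
    by_cases hg : g ∈ C
    · exact hcomm g hg z hz.1
    · rw [show g = t * (t⁻¹ * g) by group]
      exact (hzt.mul_left (hcomm _ (hout t g ht hg) z hz.1)).eq

theorem card_center_eq_two [Finite X] {n : ℕ} (hn : 3 ≤ n) (hX : Nat.card X = 2 ^ n)
    (hd : (commutator X).index = 4) : Nat.card (Subgroup.center X) = 2 := by
  obtain ⟨C, hC, hCi⟩ := exists_cyclic_index_two n hn hX hd
  obtain ⟨t, ht⟩ : ∃ t, t ∉ C := by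
    by_contra! h
    have : C = ⊤ := eq_top_iff.mpr fun x _ => h x
    rw [this, Subgroup.index_top] at hCi
    omega
  rw [center_eq_fixed hn hX hd C hC hCi t ht]
  exact card_fixed_eq_two C hC.isMulCommutative hCi hd t ht

/-- A `2`-group with derived factor group of order four has maximal class. -/
theorem class_of_index_commutator : ∀ (n : ℕ) {X : Type u} [Group X] [Finite X]
    [Group.IsNilpotent X], 2 ≤ n → Nat.card X = 2 ^ n → (commutator X).index = 4 →
    Group.nilpotencyClass X = n - 1 := by
  intro n
  induction n using Nat.strong_induction_on with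
  | _ n ih =>
    intro X _ _ _ hn hX hd
    have hfact : Fact (Nat.Prime 2) := ⟨Nat.prime_two⟩
    have hG : IsPGroup 2 X := IsPGroup.of_card hX
    have : Nontrivial X :=
      Finite.one_lt_card_iff_nontrivial.mp (hX ▸ Nat.one_lt_pow (by omega) one_lt_two)
    rcases Nat.lt_or_ge n 3 with h3 | h3
    · obtain rfl : n = 2 := by omega
      have h1 := nilpotencyClass_le_one_of_comm (IsPGroup.isMulCommutative_of_card_eq_prime_sq hX)
      have h2 : Group.nilpotencyClass X ≠ 0 := fun h => by
        exact not_subsingleton X (Group.nilpotencyClass_zero_iff_subsingleton.mp h)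
      omega
    · have hZ := card_center_eq_two h3 hX hd
      have hne : commutator X ≠ ⊥ := by
        intro h
        rw [h, Subgroup.index_bot, hX, show (4 : ℕ) = 2 ^ 2 by norm_num] at hd
        have := Nat.pow_right_injective le_rfl hd
        omega
      have hle : Subgroup.center X ≤ commutator X := by
        have h := normal_inf_center_ne_bot hG _ hne
        have hd' := Subgroup.card_dvd_of_le
          (inf_le_right : commutator X ⊓ Subgroup.center X ≤ Subgroup.center X)
        rw [hZ] at hd'
        rcases (Nat.dvd_prime Nat.prime_two).mp hd' with h1 | h1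
        · exact absurd (Subgroup.eq_bot_of_card_eq _ h1) h
        · exact (Subgroup.eq_of_le_of_card_ge inf_le_right (by rw [h1, hZ])).symm.le.trans
            inf_le_left
      have hQ : Nat.card (X ⧸ Subgroup.center X) = 2 ^ (n - 1) := by
        have h := card_quotient_mul (Subgroup.center X)
        rw [hZ, hX, show n = n - 1 + 1 by omega, pow_succ] at h
        exact Nat.eq_of_mul_eq_mul_right two_pos h
      rw [Group.nilpotencyClass_eq_quotient_center_plus_one,
        ih (n - 1) (by omega) (by omega) hQ (by rw [index_commutator_eq_of_le _ hle, hd])]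
      omega

/-- The central quotient of a `2`-group of maximal class is dihedral. -/
theorem quotient_center_dihedral [Finite X] {n : ℕ} (hn : 3 ≤ n) (hX : Nat.card X = 2 ^ n)
    (hd : (commutator X).index = 4) :
    Nonempty (X ⧸ Subgroup.center X ≃* DihedralGroup (2 ^ (n - 2))) := by
  obtain ⟨C, hC, hCi⟩ := exists_cyclic_index_two n hn hX hd
  obtain ⟨t, ht⟩ : ∃ t, t ∉ C := by
    by_contra! h
    have : C = ⊤ := eq_top_iff.mpr fun x _ => h x
    rw [this, Subgroup.index_top] at hCi
    omega
  have hCn : C.Normal := Subgroup.normal_of_index_eq_two hCi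
  have hCc : IsMulCommutative C := hC.isMulCommutative
  have hZeq := center_eq_fixed hn hX hd C hC hCi t ht
  have hZ2 := card_center_eq_two hn hX hd
  have ht2 : t * t ∈ C := by rw [← sq]; exact hCi ▸ C.pow_index_mem t
  obtain ⟨a, ha⟩ := (C.isCyclic_iff_exists_zpowers_eq_top).mp hC
  have haC : a ∈ C := ha ▸ Subgroup.mem_zpowers a
  let f := QuotientGroup.mk' (Subgroup.center X)
  have hQ : Nat.card (X ⧸ Subgroup.center X) = 2 * 2 ^ (n - 2) := by
    have h := card_quotient_mul (Subgroup.center X)
    rw [hZ2, hX] at h
    rw [← pow_succ', show n - 2 + 1 = n - 1 by omega]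
    rw [show n = n - 1 + 1 by omega, pow_succ] at h
    exact Nat.eq_of_mul_eq_mul_right two_pos h
  have ht2' : f t ^ 2 = 1 := by
    rw [← map_pow]
    refine (QuotientGroup.eq_one_iff _).mpr (hZeq.symm ▸ ⟨by rwa [sq],
      Subgroup.mem_centralizer_singleton_iff.mpr ?_⟩)
    rw [sq, mul_assoc]
  have hinv : f t * f a * (f t)⁻¹ = (f a)⁻¹ := by
    rw [← map_inv, ← map_mul, ← map_mul, eq_inv_iff_mul_eq_one, ← map_mul]
    refine (QuotientGroup.eq_one_iff _).mpr ?_
    have h := mul_conj_mem_fixed C hCc ht2 haC
    rw [← hZeq] at h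
    rwa [show t * a * t⁻¹ * a = a * (t * a * t⁻¹) from
      setLike_mul_comm (hCn.conj_mem a haC t) haC]
  have hord : orderOf (f a) = 2 ^ (n - 2) := by
    rw [← Nat.card_zpowers, ← MonoidHom.map_zpowers, ha]
    have hZC : Subgroup.center X ≤ C := hZeq.le.trans inf_le_left
    have h := Subgroup.card_mul_index (f.domRestrict C).ker
    rw [Subgroup.index_ker, MonoidHom.domRestrict_range, MonoidHom.ker_domRestrict,
      QuotientGroup.ker_mk', Nat.card_congr (Subgroup.subgroupOfEquivOfLe hZC).toEquiv, hZ2] at h
    have h1 := C.card_mul_index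
    rw [hCi, hX, ← h] at h1
    have h2 : 2 ^ n = 2 ^ (n - 2) * 4 := by
      rw [show (4 : ℕ) = 2 ^ 2 by norm_num, ← pow_add]
      congr 1
      omega
    linarith
  have : NeZero (2 ^ (n - 2)) := ⟨(pow_pos two_pos _).ne'⟩
  refine nonempty_dihedral_equiv hord ht2' hinv (fun h => ht ?_) hQ
  rw [← MonoidHom.map_zpowers, ha] at h
  obtain ⟨c, hc, hct⟩ := h
  have hz : c⁻¹ * t ∈ Subgroup.center X := QuotientGroup.eq.mp hct
  rw [hZeq] at hz
  simpa using C.mul_mem hc hz.1

end Cfsg.Agent.Lib.PGroups
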