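import Mathlib.GroupTheory.Sylow
import Cfsg.Agent.Lib.PGroups.Frattini
import Cfsg.Agent.Lib.PGroups.MaxAbelian

/-!
# Automorphisms of `p`-groups: fixed elements
-/

namespace Cfsg.Agent.Lib.PGroups

open Subgroup
open scoped commutatorElement

variable {G : Type*} [Group G] {p : ℕ}

/-- If `a` fixes `h` and the conjugate `g * h * g⁻¹`, then `g⁻¹ * a g` commutes with `h`. -/
theorem commute_of_fixed (a : MulAut G) (g h : G) (hh : a h = h)
    (hgh : a (g * h * g⁻¹) = g * h * g⁻¹) : Commute (g⁻¹ * a g) h := by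
  rw [map_mul, map_mul, map_inv, hh] at hgh
  show g⁻¹ * a g * h = h * (g⁻¹ * a g)
  calc g⁻¹ * a g * h = g⁻¹ * (a g * h * (a g)⁻¹) * a g := by group
    _ = h * (g⁻¹ * a g) := by rw [hgh]; group

/-- An automorphism of order prime to `p` stabilising `g` modulo a fixed `p`-element fixes `g`. -/
theorem eq_of_fixed_diff (hG : IsPGroup p G) (a : MulAut G) (ha : (orderOf a).Coprime p) (g : G)
    (hd : a (g⁻¹ * a g) = g⁻¹ * a g) : a g = g := by
  set d := g⁻¹ * a g with hd'
  have hag : a g = g * d := by rw [hd']; group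
  have hk : ∀ k : ℕ, (a ^ k) g = g * d ^ k := by
    intro k
    induction k with
    | zero => simp
    | succ k ih =>
        rw [pow_succ', MulAut.mul_apply, ih, map_mul, map_pow, hd, hag, pow_succ', mul_assoc]
  have h0 := hk (orderOf a)
  rw [pow_orderOf_eq_one, MulAut.one_apply, eq_comm, mul_eq_left] at h0
  obtain ⟨k, hk'⟩ := hG d
  have hd1 : orderOf d ∣ Nat.gcd (orderOf a) (p ^ k) :=
    Nat.dvd_gcd (orderOf_dvd_of_pow_eq_one h0) (orderOf_dvd_of_pow_eq_one hk')
  rw [Nat.Coprime.gcd_eq_one (ha.pow_right k), Nat.dvd_one, orderOf_eq_one_iff] at hd1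
  rw [hag, hd1, mul_one]

/-- For odd `p`, an automorphism of `p'`-order fixing all elements of order `p` fixes all elements
of every invariant subgroup. -/
theorem fixed_of_fixed_omega [Finite G] [Fact p.Prime] (hp : p ≠ 2) (hG : IsPGroup p G)
    (a : MulAut G) (ha : (orderOf a).Coprime p) (h : ∀ x : G, x ^ p = 1 → a x = x) :
    ∀ H : Subgroup G, (∀ x ∈ H, a x ∈ H) → ∀ x ∈ H, a x = x := by
  intro H
  induction hn : Nat.card H using Nat.strong_induction_on generalizing H with
  | _ n ih =>
    intro hH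
    have hsub : ∀ K : Subgroup G, K < H → (∀ x ∈ K, a x ∈ K) → ∀ x ∈ K, a x = x := fun K hK hKi =>
      ih _ (hn ▸ lt_of_le_of_ne (Subgroup.card_le_of_le hK.le)
        (fun he => hK.ne (Subgroup.eq_of_le_of_card_ge hK.le he.ge))) K rfl hKi
    let D := Subgroup.closure {x | ∃ g ∈ H, x = g⁻¹ * a g}
    have hDH : D ≤ H := (Subgroup.closure_le H).mpr fun x ⟨g, hg, hx⟩ =>
      hx ▸ H.mul_mem (H.inv_mem hg) (hH g hg)
    rcases hDH.lt_or_eq with hlt | heq
    · have hDi : ∀ x ∈ D, a x ∈ D := by
        intro x hx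
        induction hx using Subgroup.closure_induction with
        | mem y hy =>
            obtain ⟨g, hg, rfl⟩ := hy
            exact Subgroup.subset_closure ⟨a g, hH g hg, by rw [map_mul, map_inv]⟩
        | one => simp
        | mul u v _ _ hu hv => rw [map_mul]; exact D.mul_mem hu hv
        | inv u _ hu => rw [map_inv]; exact D.inv_mem hu
      exact fun x hx => eq_of_fixed_diff hG a ha x
        (hsub D hlt hDi _ (Subgroup.subset_closure ⟨x, hx, rfl⟩))
    · rcases eq_or_ne H ⊥ with rfl | hne
      · exact fun x hx => by simp [Subgroup.mem_bot.mp hx]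
      have : Nontrivial H := (Subgroup.nontrivial_iff_ne_bot H).mpr hne
      set Φ := (frattini H).map H.subtype with hΦdef
      have hΦH : Φ < H := by
        refine lt_of_le_of_ne (Subgroup.map_subtype_le _) fun he => ?_
        have h1 : (⊥ : Subgroup H) ⊔ frattini H = ⊤ := by
          rw [bot_sup_eq]
          refine Subgroup.map_injective H.subtype_injective ?_
          rw [← hΦdef, he, ← MonoidHom.range_eq_map, Subgroup.range_subtype]
        exact bot_ne_top (frattini_nongenerating h1)
      have hΦi : ∀ x ∈ Φ, a x ∈ Φ := by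
        rintro x ⟨y, hy, rfl⟩
        let φ : H ≃* H :=
          MulEquiv.ofBijective
            ({ toFun := fun z => ⟨a z, hH z z.2⟩
               map_one' := Subtype.ext (map_one a)
               map_mul' := fun u v => Subtype.ext (map_mul a (u : G) v) } : H →* H)
            (Finite.injective_iff_bijective.mp fun u v huv =>
              Subtype.ext (a.injective (congrArg Subtype.val huv)))
        exact ⟨φ y, (SetLike.ext_iff.mp (frattini_characteristic.fixed φ) y).mpr hy, rfl⟩
      have hfix := hsub Φ hΦH hΦi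
      have hcen : ∀ x ∈ Φ, ∀ y ∈ H, Commute y x := by
        intro x hx
        have key : H ≤ Subgroup.centralizer {x} := by
          refine heq.ge.trans ((Subgroup.closure_le _).mpr ?_)
          rintro _ ⟨g, hg, rfl⟩
          rw [SetLike.mem_coe, Subgroup.mem_centralizer_singleton_iff]
          refine (commute_of_fixed a g x (hfix x hx) (hfix _ ?_)).eq
          obtain ⟨y, hy, rfl⟩ := hx
          exact ⟨⟨g, hg⟩ * y * ⟨g, hg⟩⁻¹, (inferInstance : (frattini H).Normal).conj_mem y hy _,
            rfl⟩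
        exact fun y hy => Subgroup.mem_centralizer_singleton_iff.mp (key hy)
      intro g hg
      set d := g⁻¹ * a g with hd
      have hdH : d ∈ H := H.mul_mem (H.inv_mem hg) (hH g hg)
      have hHp := hG.to_subgroup H
      have hgp : g ^ p ∈ Φ := ⟨⟨g, hg⟩ ^ p, pow_mem_frattini hHp _, rfl⟩
      have hc : ∀ x ∈ H, ∀ y ∈ H, ⁅x, y⁆ ∈ Φ := fun x hx y hy =>
        ⟨⁅(⟨x, hx⟩ : H), ⟨y, hy⟩⁆, commutatorElement_mem_frattini hHp _ _, rfl⟩
      have hcp : ∀ x ∈ H, ∀ y ∈ H, ⁅x, y⁆ ^ p = 1 := fun x hx y hy => by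
        rw [← commutatorElement_pow_left_of_central x y (hcen _ (hc x hx y hy) x hx),
          commutatorElement_eq_one_iff_mul_comm]
        exact (hcen _ ⟨⟨x, hx⟩ ^ p, pow_mem_frattini hHp _, rfl⟩ y hy).eq.symm
      obtain ⟨t, ht⟩ : p ∣ p.choose 2 := by
        have h := prime_dvd_choose_two (p := p) (n := 1) (by simpa using hp) le_rfl
        rwa [pow_one] at h
      have hpow : (g * d) ^ p = g ^ p * d ^ p := by
        rw [mul_pow_of_central_commutator g d (hcen _ (hc d hdH g hg) g hg)
          (hcen _ (hc d hdH g hg) d hdH), ht, pow_mul, hcp d hdH g hg, one_pow, mul_one]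
      have hdp : d ^ p = 1 := by
        have h1 : a (g ^ p) = g ^ p := hfix _ hgp
        rw [map_pow, show a g = g * d by rw [hd]; group, hpow] at h1
        exact mul_eq_left.mp h1
      exact eq_of_fixed_diff hG a ha g (h d hdp)

end Cfsg.Agent.Lib.PGroups
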