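import Cfsg.Agent.Lib.PLocal.SLTwo
import Mathlib.GroupTheory.SpecificGroups.Quaternion
import Mathlib.GroupTheory.QuotientGroup.Basic

/-!
# Recognition of `SL(2,3)` as `Q₈ ⋊ C₃`, and automorphisms of `Q₈`
-/

namespace Cfsg.Agent.Lib.PGroups

open Subgroup Matrix

/-- The defining relations of `Q₈ ⋊ C₃`. -/
def SLRel {G : Type*} [Group G] (i j g : G) : Prop :=
  i ^ 4 = 1 ∧ j * j = i * i ∧ j * i * j⁻¹ = i⁻¹ ∧ g ^ 3 = 1 ∧ g * i * g⁻¹ = j ∧ g * j * g⁻¹ = i * j

theorem card_closure_le_of_slRel {G : Type*} [Group G] [Finite G] {i j g : G}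
    (h : SLRel i j g) : Nat.card (Subgroup.closure ({i, j, g} : Set G)) ≤ 24 := by
  obtain ⟨hi, hj, hji, hg, hgi, hgj⟩ := h
  have step : ∀ (A : Subgroup G) (x : G) (k : ℕ), 0 < k → x ^ k ∈ A →
      (∀ a ∈ A, x * a * x⁻¹ ∈ A) →
      Nat.card (A ⊔ Subgroup.zpowers x : Subgroup G) ≤ Nat.card A * k := by
    intro A x k hk hxk hconj
    set S := A ⊔ Subgroup.zpowers x
    have hxN : x ∈ Subgroup.normalizer (A : Set G) :=
      Subgroup.mem_normalizer_fintype (fun a ha => hconj a ha)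
    have hle : S ≤ Subgroup.normalizer (A : Set G) :=
      sup_le Subgroup.le_normalizer (Subgroup.zpowers_le.mpr hxN)
    have : (A.subgroupOf S).Normal := Subgroup.normal_subgroupOf_of_le_normalizer hle
    have hxS : x ∈ S := le_sup_right (a := A) (Subgroup.mem_zpowers x)
    rw [← Subgroup.card_mul_index (A.subgroupOf S),
      Nat.card_congr (Subgroup.subgroupOfEquivOfLe (le_sup_left : A ≤ S)).toEquiv]
    refine Nat.mul_le_mul_left _ ?_
    rw [Subgroup.index_eq_card]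
    let f := QuotientGroup.mk' (A.subgroupOf S)
    have htop : Subgroup.zpowers (f ⟨x, hxS⟩) = ⊤ := by
      refine eq_top_iff.mpr fun y _ => ?_
      obtain ⟨⟨y, hy⟩, rfl⟩ := QuotientGroup.mk'_surjective _ y
      have hS : S ≤ ((Subgroup.zpowers (f ⟨x, hxS⟩)).comap f).map S.subtype := by
        refine sup_le (fun a ha => ⟨⟨a, le_sup_left (b := Subgroup.zpowers x) ha⟩, ?_, rfl⟩)
          (Subgroup.zpowers_le.mpr ⟨⟨x, hxS⟩, Subgroup.mem_zpowers _, rfl⟩)
        rw [SetLike.mem_coe, Subgroup.mem_comap]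
        refine Subgroup.mem_zpowers_iff.mpr ⟨0, ?_⟩
        rw [zpow_zero]
        exact ((QuotientGroup.eq_one_iff (N := A.subgroupOf S) _).mpr (show (⟨a, le_sup_left (b := Subgroup.zpowers x) ha⟩ : S) ∈ A.subgroupOf S from ha)).symm
      obtain ⟨w, hw, hwy⟩ := hS hy
      obtain rfl : w = ⟨y, hy⟩ := Subtype.ext hwy
      exact hw
    rw [← Subgroup.card_top, ← htop, Nat.card_zpowers]
    refine orderOf_le_of_pow_eq_one hk ?_
    rw [← map_pow]
    exact (QuotientGroup.eq_one_iff _).mpr hxk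
  have h1 : Nat.card (Subgroup.zpowers i) ≤ 4 := by
    rw [Nat.card_zpowers]
    exact orderOf_le_of_pow_eq_one (by norm_num) hi
  have h2 : Nat.card (Subgroup.zpowers i ⊔ Subgroup.zpowers j : Subgroup G) ≤ 4 * 2 := by
    refine (step _ j 2 two_pos ?_ ?_).trans (Nat.mul_le_mul_right _ h1)
    · rw [sq, hj]
      exact Subgroup.mul_mem _ (Subgroup.mem_zpowers i) (Subgroup.mem_zpowers i)
    · intro a ha
      obtain ⟨m, rfl⟩ := ha
      show j * i ^ m * j⁻¹ ∈ _
      rw [← conj_zpow, hji]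
      exact Subgroup.zpow_mem _ (Subgroup.inv_mem _ (Subgroup.mem_zpowers i)) m
  set A := Subgroup.zpowers i ⊔ Subgroup.zpowers j
  have hiA : i ∈ A := le_sup_left (b := Subgroup.zpowers j) (Subgroup.mem_zpowers i)
  have hjA : j ∈ A := le_sup_right (a := Subgroup.zpowers i) (Subgroup.mem_zpowers j)
  have h3 : Nat.card (A ⊔ Subgroup.zpowers g : Subgroup G) ≤ 4 * 2 * 3 := by
    refine (step _ g 3 three_pos (hg ▸ A.one_mem) ?_).trans (Nat.mul_le_mul_right _ h2)
    intro a ha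
    have hle : A ≤ A.comap (MulAut.conj g).toMonoidHom := by
      refine sup_le (Subgroup.zpowers_le.mpr ?_) (Subgroup.zpowers_le.mpr ?_)
      · show g * i * g⁻¹ ∈ A
        rw [hgi]; exact hjA
      · show g * j * g⁻¹ ∈ A
        rw [hgj]; exact A.mul_mem hiA hjA
    exact hle ha
  refine le_trans (Subgroup.card_le_of_le ((Subgroup.closure_le _).mpr ?_)) h3
  rintro x (rfl | rfl | rfl)
  · exact le_sup_left (b := Subgroup.zpowers g) hiA
  · exact le_sup_left (b := Subgroup.zpowers g) hjA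
  · exact le_sup_right (a := A) (Subgroup.mem_zpowers _)

/-- The matrices realising the relations. -/
def matI : SpecialLinearGroup (Fin 2) (ZMod 3) := ⟨!![0, 1; -1, 0], by decide⟩
/-- The matrices realising the relations. -/
def matJ : SpecialLinearGroup (Fin 2) (ZMod 3) := ⟨!![1, -1; -1, -1], by decide⟩
/-- The matrices realising the relations. -/
def matS : SpecialLinearGroup (Fin 2) (ZMod 3) := ⟨!![1, 2; 0, 1], by decide⟩

theorem slRel_mat : SLRel matI matJ matS := by
  unfold SLRel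
  decide

theorem mat_exists : ∀ M : SpecialLinearGroup (Fin 2) (ZMod 3),
    ∃ a : Fin 4, ∃ b : Fin 2, ∃ c : Fin 3, M = matI ^ (a : ℕ) * matJ ^ (b : ℕ) * matS ^ (c : ℕ) := by
  decide +kernel

/-- Recognition of `SL(2,3)`. -/
theorem nonempty_sl_equiv {G : Type*} [Group G] [Finite G] {i j g : G} (h : SLRel i j g)
    (hgen : Subgroup.closure ({i, j, g} : Set G) = ⊤) (hcard : 24 ≤ Nat.card G) :
    Nonempty (G ≃* SpecialLinearGroup (Fin 2) (ZMod 3)) := by
  let S := SpecialLinearGroup (Fin 2) (ZMod 3)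
  have hprod : SLRel ((i, matI) : G × S) (j, matJ) (g, matS) := by
    obtain ⟨a, b, c, d, e, f⟩ := h
    obtain ⟨a', b', c', d', e', f'⟩ := slRel_mat
    exact ⟨Prod.ext a a', Prod.ext b b', Prod.ext c c', Prod.ext d d', Prod.ext e e',
      Prod.ext f f'⟩
  set Γ := Subgroup.closure ({(i, matI), (j, matJ), (g, matS)} : Set (G × S)) with hΓ
  have hΓc := card_closure_le_of_slRel hprod
  let π₁ : Γ →* G := (MonoidHom.fst G S).comp Γ.subtype
  let π₂ : Γ →* S := (MonoidHom.snd G S).comp Γ.subtype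
  have h1 : Function.Surjective π₁ := by
    rw [← MonoidHom.range_eq_top, MonoidHom.range_comp, Subgroup.range_subtype, hΓ,
      MonoidHom.map_closure]
    simpa [Set.image_insert_eq] using hgen
  have h2 : Function.Surjective π₂ := by
    intro M
    obtain ⟨a, b, c, rfl⟩ := mat_exists M
    refine ⟨⟨(i, matI), Subgroup.subset_closure (by simp)⟩ ^ (a : ℕ) *
      ⟨(j, matJ), Subgroup.subset_closure (by simp)⟩ ^ (b : ℕ) *
      ⟨(g, matS), Subgroup.subset_closure (by simp)⟩ ^ (c : ℕ), ?_⟩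
    simp [π₂]
  have hS : Nat.card S = 24 := PLocal.SLTwo.card_three
  have b1 : Function.Bijective π₁ := by
    refine (Nat.bijective_iff_surjective_and_card π₁).mpr ⟨h1, ?_⟩
    exact le_antisymm (hΓc.trans hcard) (Nat.card_le_card_of_surjective π₁ h1)
  have b2 : Function.Bijective π₂ := by
    refine (Nat.bijective_iff_surjective_and_card π₂).mpr ⟨h2, ?_⟩
    exact le_antisymm (hΓc.trans hS.ge) (Nat.card_le_card_of_surjective π₂ h2)
  exact ⟨(MulEquiv.ofBijective π₁ b1).symm.trans (MulEquiv.ofBijective π₂ b2)⟩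

/-- The endomap of `Q₈` with prescribed images of the two standard generators. -/
def quatFun (u v : QuaternionGroup 2) : QuaternionGroup 2 → QuaternionGroup 2
  | .a k => u ^ k.val
  | .xa k => v * u ^ k.val

theorem quatFun_iterate : ∀ u v : QuaternionGroup 2,
    (∀ x y, quatFun u v (x * y) = quatFun u v x * quatFun u v y) →
    Function.Injective (quatFun u v) → ∀ x, (quatFun u v)^[24] x = x := by
  decide +kernel

theorem quatFun_three : ∀ u v : QuaternionGroup 2,
    (∀ x y, quatFun u v (x * y) = quatFun u v x * quatFun u v y) →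
    (∀ x, (quatFun u v)^[3] x = x) → (∃ x, quatFun u v x ≠ x) →
    ∃ i j, quatFun u v i = j ∧ quatFun u v j = i * j ∧ i ^ 4 = 1 ∧ j * j = i * i ∧
      j * i * j⁻¹ = i⁻¹ ∧ ∀ x, ∃ a : Fin 4, ∃ b : Fin 2, x = i ^ (a : ℕ) * j ^ (b : ℕ) := by
  decide +kernel

theorem mulEquiv_eq_quatFun (φ : QuaternionGroup 2 ≃* QuaternionGroup 2) :
    ⇑φ = quatFun (φ (.a 1)) (φ (.xa 0)) := by
  funext x
  rcases x with k | k
  · simp only [quatFun]
    rw [← map_pow, QuaternionGroup.a_one_pow, ZMod.natCast_zmod_val]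
  · simp only [quatFun]
    rw [← map_pow, ← map_mul, QuaternionGroup.a_one_pow, ZMod.natCast_zmod_val,
      QuaternionGroup.xa_mul_a, zero_add]

/-- A non-trivial odd order automorphism of `Q₈` has order three and permutes generators cyclically. -/
theorem quat_aut_odd (φ : MulAut (QuaternionGroup 2)) (hφ : Odd (orderOf φ)) (h1 : φ ≠ 1) :
    φ ^ 3 = 1 ∧ ∃ i j, φ i = j ∧ φ j = i * j ∧ i ^ 4 = 1 ∧ j * j = i * i ∧ j * i * j⁻¹ = i⁻¹ ∧
      ∀ x, ∃ a : Fin 4, ∃ b : Fin 2, x = i ^ (a : ℕ) * j ^ (b : ℕ) := by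
  have hf := mulEquiv_eq_quatFun φ
  have hmul : ∀ x y, quatFun (φ (.a 1)) (φ (.xa 0)) (x * y) =
      quatFun (φ (.a 1)) (φ (.xa 0)) x * quatFun (φ (.a 1)) (φ (.xa 0)) y := by
    rw [← hf]; exact map_mul φ
  have hit : ∀ (k : ℕ) x, (φ ^ k) x = (quatFun (φ (.a 1)) (φ (.xa 0)))^[k] x := by
    intro k
    induction k with
    | zero => simp
    | succ k ih => intro x; rw [pow_succ', MulAut.mul_apply, ih, Function.iterate_succ_apply', ← hf]
  have h24 : φ ^ 24 = 1 := MulEquiv.ext fun x => by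
    rw [hit, MulAut.one_apply]
    exact quatFun_iterate _ _ hmul (hf ▸ φ.injective) x
  have h3 : orderOf φ ∣ 3 := by
    have hd : orderOf φ ∣ 3 * 2 ^ 3 := (orderOf_dvd_of_pow_eq_one h24).trans (dvd_of_eq (by norm_num))
    exact (Nat.Coprime.pow_right 3 (Nat.coprime_two_right.mpr hφ)).dvd_of_dvd_mul_right hd
  have h3' : φ ^ 3 = 1 := orderOf_dvd_iff_pow_eq_one.mp h3
  refine ⟨h3', ?_⟩
  obtain ⟨i, j, hij⟩ := quatFun_three _ _ hmul (fun x => by rw [← hit, h3', MulAut.one_apply]) (by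
    by_contra! hall
    exact h1 (MulEquiv.ext fun x => (congrFun hf x).trans (hall x)))
  exact ⟨i, j, by rw [hf]; exact hij⟩

end Cfsg.Agent.Lib.PGroups
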