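import Mathlib
import Cfsg.Agent.Lib.SylowNumbers.Actions
import Cfsg.Agent.Lib.Brauer.Induction

/-!
Glauberman's bound for a `p`-group `P` and a conjugate `P ^ g` meeting it in index `p`, via the
normal form of Sims.
-/

set_option autoImplicit false
set_option linter.unusedSectionVars false
set_option linter.style.haveILetI false

namespace Cfsg.Agent.Lib.PGroups.IsomorphicSubgroups

open scoped Pointwise commutatorElement
open Subgroup

variable {G : Type*} [Group G] [Finite G]

/-- Conjugation by `g ^ i` on the right, as a homomorphism. -/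
def cj (g : G) (i : ℕ) : G →* G := (MulAut.conj (g ^ i)⁻¹).toMonoidHom

theorem cj_apply (g : G) (i : ℕ) (x : G) : cj g i x = (g ^ i)⁻¹ * x * g ^ i := by
  show (g ^ i)⁻¹ * x * (g ^ i)⁻¹⁻¹ = _
  rw [inv_inv]

theorem card_mul_relIndex' {H K : Subgroup G} (h : H ≤ K) :
    Nat.card H * H.relIndex K = Nat.card K := by
  rw [← Nat.card_congr (Subgroup.subgroupOfEquivOfLe h).toEquiv]
  exact (H.subgroupOf K).card_mul_index

theorem cj_cj (g : G) (i j : ℕ) (x : G) : cj g j (cj g i x) = cj g (i + j) x := by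
  simp only [cj_apply, pow_add, _root_.mul_inv_rev, mul_assoc]

theorem cj_injective (g : G) (i : ℕ) : Function.Injective (cj g i) :=
  (MulAut.conj (g ^ i)⁻¹).injective

theorem card_map_cj (g : G) (i : ℕ) (H : Subgroup G) : Nat.card (H.map (cj g i)) = Nat.card H :=
  Subgroup.card_map_of_injective (cj_injective g i)

theorem eq_of_index_le {H L : Subgroup G} {p : ℕ} (hp : p.Prime) {k : ℕ}
    (hL : Nat.card L = p ^ (k + 1)) (hH : Nat.card H = p ^ k) {T : Subgroup G} (hHT : H ≤ T)
    {e : G} (he : e ∈ L) (heH : e ∉ H) (heT : e ∈ T) (hHL : H ≤ L) : L ≤ T := by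
  have hle : H ≤ T ⊓ L := le_inf hHT hHL
  obtain ⟨j, hj, hcard⟩ := (Nat.dvd_prime_pow hp).mp
    (hL ▸ Subgroup.card_dvd_of_le (inf_le_right : T ⊓ L ≤ L))
  have hne : H ≠ T ⊓ L := fun h => heH (h ▸ ⟨heT, he⟩)
  have h1 : k ≤ j := (Nat.pow_dvd_pow_iff_le_right hp.one_lt).mp
    (hH ▸ hcard ▸ Subgroup.card_dvd_of_le hle)
  have h2 : j ≠ k := by
    rintro rfl
    exact hne (Subgroup.eq_of_le_of_card_ge hle (by rw [hH, hcard]))
  have h3 : T ⊓ L = L := Subgroup.eq_of_le_of_card_ge inf_le_right (by
    rw [hcard, hL]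
    exact Nat.pow_le_pow_right hp.pos (by omega))
  rw [← h3]
  exact inf_le_left

section Chain

variable (P : Subgroup G) (g : G)

/-- `P ⊓ P ^ g ⊓ ⋯ ⊓ P ^ (g ^ j)`, by recursion. -/
def chain : ℕ → Subgroup G
  | 0 => P
  | j + 1 => chain j ⊓ (chain j).map (cj g 1)

theorem chain_antitone (j : ℕ) : chain P g (j + 1) ≤ chain P g j := inf_le_left

theorem chain_le (j : ℕ) : chain P g j ≤ P := by
  induction j with
  | zero => exact le_rfl
  | succ j ih => exact (chain_antitone P g j).trans ih

theorem chain_succ_le_map (j : ℕ) : chain P g (j + 1) ≤ (chain P g j).map (cj g 1) := inf_le_right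

variable {P g} {p : ℕ}

theorem exists_normal_form (hp : p.Prime) (hP : IsPGroup p P)
    (hidx : (P ⊓ P.map (cj g 1)).relIndex (P.map (cj g 1)) = p)
    (h1 : ∀ Q : Subgroup G, Q ≤ P → (Q.subgroupOf P).Normal → Q.map (cj g 1) = Q → Q = ⊥) :
    ∃ t : ℕ, ∃ x : G, 1 ≤ t ∧ P = Subgroup.closure ((fun i => cj g i x) '' Set.Ico 0 t) ∧
      ∀ a l : ℕ, l ≤ t →
        Nat.card (Subgroup.closure ((fun i => cj g i x) '' Set.Ico a (a + l))) = p ^ l := by
  classical
  have : Fact p.Prime := ⟨hp⟩
  set W := chain P g with hW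
  have hpg : ∀ j, IsPGroup p (W j) := fun j => hP.to_le (chain_le P g j)
  have hstep : ∀ j, (W (j + 1)).relIndex (W j) ≤ p := by
    intro j
    induction j with
    | zero =>
      have e : (W 1).relIndex (W 0) = p := by
        have hc : Nat.card (P.map (cj g 1)) = Nat.card P := card_map_cj g 1 P
        have h := card_mul_relIndex' (H := P ⊓ P.map (cj g 1)) inf_le_right
        have h' := card_mul_relIndex' (H := P ⊓ P.map (cj g 1)) (inf_le_left : _ ≤ P)
        rw [hidx, hc, ← h'] at h
        exact (Nat.eq_of_mul_eq_mul_left Nat.card_pos h).symm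
      exact e.le
    | succ j ih =>
      have e : (W (j + 1 + 1)).relIndex (W (j + 1)) =
          ((W (j + 1)).map (cj g 1)).relIndex (W (j + 1)) :=
        Subgroup.inf_relIndex_left _ _
      rw [e]
      calc ((W (j + 1)).map (cj g 1)).relIndex (W (j + 1))
          ≤ ((W (j + 1)).map (cj g 1)).relIndex ((W j).map (cj g 1)) :=
            Subgroup.relIndex_le_of_le_right (chain_succ_le_map P g j)
              Subgroup.index_ne_zero_of_finite
        _ = (W (j + 1)).relIndex (W j) :=
            Subgroup.relIndex_map_map_of_injective _ _ (cj_injective g 1)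
        _ ≤ p := ih
  have hstep' : ∀ j, W (j + 1) ≠ W j → Nat.card (W j) = Nat.card (W (j + 1)) * p := by
    intro j hne
    have h := card_mul_relIndex' (chain_antitone P g j)
    obtain ⟨n, hn⟩ := IsPGroup.iff_card.mp (hpg j)
    obtain ⟨k, -, hk⟩ := (Nat.dvd_prime_pow hp).mp
      (hn ▸ Subgroup.relIndex_dvd_card (H := W (j + 1)) (W j))
    have hk0 : k ≠ 0 := by
      rintro rfl
      exact hne (le_antisymm (chain_antitone P g j)
        (Subgroup.relIndex_eq_one.mp (by rw [hk, pow_zero])))
    have hk1 : k ≤ 1 := by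
      by_contra hk1
      have h2 := hstep j
      rw [hk] at h2
      have h3 : p ^ 1 < p ^ k := Nat.pow_lt_pow_right hp.one_lt (by omega)
      rw [pow_one] at h3
      omega
    rw [← h, hk, show k = 1 by omega, pow_one]
  -- the first repetition
  have hex : ∃ j, W (j + 1) = W j := by
    by_contra hno
    push Not at hno
    have hdec : ∀ j, Nat.card (W j) + j ≤ Nat.card P := by
      intro j
      induction j with
      | zero => exact le_rfl
      | succ j ih =>
        have h2 := hstep' j (hno j)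
        have h3 : 0 < Nat.card (W (j + 1)) := Nat.card_pos
        have := hp.two_le
        nlinarith
    have := hdec (Nat.card P)
    have h3 : 0 < Nat.card (W (Nat.card P)) := Nat.card_pos
    omega
  set t := Nat.find hex with ht
  have hfix : (W t).map (cj g 1) = W t :=
    (Subgroup.eq_of_le_of_card_ge
      ((Nat.find_spec hex).ge.trans (chain_succ_le_map P g t)) (card_map_cj g 1 _).le).symm
  have hdrop : ∀ j < t, W (j + 1) ≠ W j := fun j hj => Nat.find_min hex hj
  have hnorm : ∀ k, k ≤ t → W (t - k) ≤ Subgroup.normalizer ((W t : Subgroup G) : Set G) := by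
    intro k
    induction k with
    | zero => intro _; exact Subgroup.le_normalizer
    | succ k ih =>
      intro hk
      obtain ⟨j, hj⟩ : ∃ j, t = j + (k + 1) := ⟨t - (k + 1), by omega⟩
      have e1 : t - (k + 1) = j := by omega
      rw [e1]
      have hc := hstep' j (hdrop j (by omega))
      by_cases hk0 : k = 0
      · have e2 : j + 1 = t := by omega
        rw [← e2]
        refine SylowNumbers.Actions.le_normalizer_of_relIndex_eq (hpg j) (chain_antitone P g j) ?_
        have h := card_mul_relIndex' (chain_antitone P g j)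
        exact Nat.eq_of_mul_eq_mul_left Nat.card_pos (h.trans hc)
      · have ih' := ih (by omega)
        rw [show t - k = j + 1 by omega] at ih'
        obtain ⟨n, hn⟩ := IsPGroup.iff_card.mp (hpg (j + 1))
        set L := (W (j + 1)).comap (cj g 1) with hL
        have hLle : L ≤ W j := fun y hy => by
          obtain ⟨z, hz, hze⟩ := chain_succ_le_map P g j hy
          exact (cj_injective g 1 hze) ▸ hz
        have hLn : L ≤ Subgroup.normalizer ((W t : Subgroup G) : Set G) := by
          intro y hy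
          have hy' := ih' hy
          rw [Subgroup.mem_normalizer_iff] at hy' ⊢
          intro w
          have hmem : ∀ v, v ∈ W t ↔ cj g 1 v ∈ W t := fun v => by
            conv_rhs => rw [← hfix]
            exact (Subgroup.mem_map_iff_mem (cj_injective g 1)).symm
          rw [hmem w, hy', hmem (y * w * y⁻¹), map_mul, map_mul, map_inv]
        have hLne : ¬ L ≤ W (j + 1) := by
          intro hle
          refine hdrop (j + 1) (by omega) ?_
          refine le_antisymm (chain_antitone P g _) (le_inf le_rfl ?_)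
          calc W (j + 1) = L.map (cj g 1) :=
                (Subgroup.map_comap_eq_self_of_surjective
                  (MulAut.conj (g ^ 1)⁻¹).surjective _).symm
            _ ≤ _ := Subgroup.map_mono hle
        obtain ⟨e, heL, he⟩ := SetLike.not_le_iff_exists.mp hLne
        exact eq_of_index_le hp (k := n) (by rw [hc, hn, pow_succ]) hn ih' (hLle heL) he (hLn heL)
          (chain_antitone P g j)
  have hWbot : W t = ⊥ := h1 _ (chain_le P g t)
    ((Subgroup.normal_subgroupOf_iff_le_normalizer (chain_le P g t)).mpr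
      (by simpa [hW, chain] using hnorm t le_rfl)) hfix
  have hcard : ∀ k, k ≤ t → Nat.card (W (t - k)) = p ^ k := by
    intro k
    induction k with
    | zero => intro _; rw [Nat.sub_zero, hWbot, Subgroup.card_bot, pow_zero]
    | succ k ih =>
      intro hk
      rw [hstep' _ (hdrop _ (by omega)), show t - (k + 1) + 1 = t - k by omega, ih (by omega),
        pow_succ]
  have ht1 : 1 ≤ t := by
    by_contra h
    have h0 : P = ⊥ := by
      have h' := hWbot
      rwa [show t = 0 by omega] at h'
    rw [h0, Subgroup.map_bot, inf_idem, Subgroup.relIndex_self] at hidx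
    exact hp.ne_one hidx.symm
  -- the generator
  obtain ⟨x', hx'mem, hx'⟩ : ∃ x' ∈ W (t - 1), x' ≠ 1 :=
    (Subgroup.bot_or_exists_ne_one _).resolve_left (fun h => by
      have := hcard 1 ht1
      rw [h, Subgroup.card_bot, pow_one] at this
      exact hp.ne_one this.symm)
  obtain ⟨x, hx⟩ := (MulAut.conj (g ^ (t - 1))⁻¹).surjective x'
  refine ⟨t, x, ht1, ?_⟩
  set S : ℕ → ℕ → Subgroup G := fun a b => Subgroup.closure ((fun i => cj g i x) '' Set.Ico a b)
    with hS
  have hshift : ∀ a b, S (a + 1) (b + 1) = (S a b).map (cj g 1) := by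
    intro a b
    simp only [hS]
    rw [MonoidHom.map_closure]
    congr 1
    ext y
    simp only [Set.mem_image, Set.mem_Ico]
    constructor
    · rintro ⟨i, ⟨h, h'⟩, rfl⟩
      refine ⟨_, ⟨i - 1, ⟨by omega, by omega⟩, rfl⟩, ?_⟩
      rw [cj_cj, show i - 1 + 1 = i by omega]
    · rintro ⟨_, ⟨i, ⟨h, h'⟩, rfl⟩, rfl⟩
      exact ⟨i + 1, ⟨by omega, by omega⟩, (cj_cj g i 1 x).symm⟩
  have hWS : ∀ k, 1 ≤ k → k ≤ t → S (t - k) t = W (t - k) := by
    intro k hk
    induction k, hk using Nat.le_induction with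
    | base =>
      intro _
      have hc := hcard 1 ht1
      rw [pow_one] at hc
      have hmono : S (t - 1) t ≤ W (t - 1) := by
        refine (Subgroup.closure_le _).mpr ?_
        rintro _ ⟨i, hi, rfl⟩
        rw [Set.mem_Ico] at hi
        show cj g i x ∈ W (t - 1)
        rw [show i = t - 1 by omega]
        exact hx ▸ hx'mem
      refine le_antisymm hmono (eq_of_index_le hp (k := 0) (by rw [hc]; simp)
        (Subgroup.card_bot.trans (pow_zero p).symm) bot_le (e := x') hx'mem
        (fun h => hx' (Subgroup.mem_bot.mp h)) ?_ bot_le)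
      exact Subgroup.subset_closure ⟨t - 1, Set.mem_Ico.mpr ⟨le_rfl, by omega⟩, hx⟩
    | succ k hk ih =>
      intro hk'
      obtain ⟨j, hj⟩ : ∃ j, t = j + (k + 1) := ⟨t - (k + 1), by omega⟩
      have e1 : t - (k + 1) = j := by omega
      have e2 : t - k = j + 1 := by omega
      have ih' := ih (by omega)
      rw [e2] at ih'
      rw [e1]
      have hlow : S j (t - 1) ≤ W j := by
        have h := chain_succ_le_map P g j
        rw [← hW, ← ih', show S (j + 1) t = (S j (t - 1)).map (cj g 1) by
          rw [← hshift, show t - 1 + 1 = t by omega]] at h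
        exact (Subgroup.map_le_map_iff_of_injective (cj_injective g 1)).mp h
      have hhigh : S (j + 1) t ≤ W j := ih'.le.trans (chain_antitone P g j)
      have hle : S j t ≤ W j := by
        refine (Subgroup.closure_le _).mpr ?_
        rintro _ ⟨i, hi, rfl⟩
        rw [Set.mem_Ico] at hi
        by_cases hij : i = j
        · exact hlow (Subgroup.subset_closure ⟨i, Set.mem_Ico.mpr ⟨by omega, by omega⟩, rfl⟩)
        · exact hhigh (Subgroup.subset_closure ⟨i, Set.mem_Ico.mpr ⟨by omega, by omega⟩, rfl⟩)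
      have hne : ¬ S j (t - 1) ≤ W (j + 1) := by
        intro hle'
        refine hdrop (j + 1) (by omega) (le_antisymm (chain_antitone P g _) (le_inf le_rfl ?_))
        calc W (j + 1) = (S j (t - 1)).map (cj g 1) := by
              rw [← hshift, show t - 1 + 1 = t by omega, ih']
          _ ≤ _ := Subgroup.map_mono hle'
      obtain ⟨e, he1, he2⟩ := SetLike.not_le_iff_exists.mp hne
      refine le_antisymm hle (eq_of_index_le hp (k := k) ?_ ?_ ?_ (hlow he1) he2 ?_
        (chain_antitone P g j))
      · rw [← e1]; exact hcard (k + 1) hk'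
      · rw [← e2]; exact hcard k (by omega)
      · rw [← ih']
        exact Subgroup.closure_mono (Set.image_mono (Set.Ico_subset_Ico_left (by omega)))
      · exact Subgroup.closure_mono (Set.image_mono (Set.Ico_subset_Ico_right (by omega))) he1
  refine ⟨?_, ?_⟩
  · have h := hWS t ht1 le_rfl
    rw [Nat.sub_self] at h
    exact h.symm
  intro a l hl
  have hgen : ∀ c, ∀ a b, Nat.card (S (a + c) (b + c)) = Nat.card (S a b) := by
    intro c
    induction c with
    | zero => intro a b; rfl
    | succ c ih =>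
      intro a b
      rw [← add_assoc, ← add_assoc, hshift, card_map_cj, ih]
  rcases Nat.eq_zero_or_pos l with rfl | hl0
  · simp
  have h2 : Nat.card (S (t - l) t) = p ^ l := by rw [hWS l hl0 hl, hcard l hl]
  have h3 := hgen (t - l) 0 l
  rw [zero_add, show l + (t - l) = t by omega] at h3
  have h4 := hgen a 0 l
  rw [zero_add, add_comm l a] at h4
  show Nat.card (S a (a + l)) = p ^ l
  rw [h4, ← h3, h2]

end Chain

section Bound

theorem commute_comm {y u v : G} (hyv : Commute y v) (he : Commute ⁅y, u⁆ v)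
    (hu : Commute (u⁻¹ * ⁅y, u⁆ * u) v) : Commute y ⁅u, v⁆ := by
  set e := ⁅y, u⁆ with hedef
  have h1 : y * ⁅u, v⁆ * y⁻¹ = e * ⁅u, v⁆ * e⁻¹ := by
    calc y * ⁅u, v⁆ * y⁻¹
        = (y * u * y⁻¹) * (y * v * y⁻¹) * (y * u * y⁻¹)⁻¹ * (y * v * y⁻¹)⁻¹ := by
          simp only [commutatorElement_def]; group
      _ = (e * u) * v * (e * u)⁻¹ * v⁻¹ := by
          rw [show y * v * y⁻¹ = v by rw [hyv.eq, mul_inv_cancel_right], hedef,
            commutatorElement_def]; group
      _ = e * u * v * u⁻¹ * (e⁻¹ * v⁻¹) := by group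
      _ = e * u * v * u⁻¹ * (v⁻¹ * e⁻¹) := by rw [(he.inv_left.inv_right).eq]
      _ = _ := by simp only [commutatorElement_def]; group
  have h2 : e * ⁅u, v⁆ * e⁻¹ = ⁅u, v⁆ := by
    calc e * ⁅u, v⁆ * e⁻¹ = u * ((u⁻¹ * e * u) * v) * u⁻¹ * (v⁻¹ * e⁻¹) := by
          simp only [commutatorElement_def]; group
      _ = u * (v * (u⁻¹ * e * u)) * u⁻¹ * (e⁻¹ * v⁻¹) := by
          rw [hu.eq, (he.inv_left.inv_right).eq]
      _ = _ := by simp only [commutatorElement_def]; group
  rw [h2] at h1
  exact mul_inv_eq_iff_eq_mul.mp h1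

variable {g x : G} {p t : ℕ}

local notation "X" => fun i => cj g i x

/-- The segment generated by `x_a, …, x_{b-1}`. -/
def seg (g x : G) (a b : ℕ) : Subgroup G :=
  Subgroup.closure ((fun i => cj g i x) '' Set.Ico a b)

theorem mem_seg {a b i : ℕ} (h1 : a ≤ i) (h2 : i < b) : cj g i x ∈ seg g x a b :=
  Subgroup.subset_closure ⟨i, Set.mem_Ico.mpr ⟨h1, h2⟩, rfl⟩

theorem seg_mono {a b a' b' : ℕ} (h1 : a ≤ a') (h2 : b' ≤ b) : seg g x a' b' ≤ seg g x a b :=
  Subgroup.closure_mono (Set.image_mono (Set.Ico_subset_Ico h1 h2))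

theorem map_seg (c a b : ℕ) : (seg g x a b).map (cj g c) = seg g x (a + c) (b + c) := by
  rw [seg, seg, MonoidHom.map_closure]
  congr 1
  ext y
  simp only [Set.mem_image, Set.mem_Ico]
  constructor
  · rintro ⟨_, ⟨i, ⟨h, h'⟩, rfl⟩, rfl⟩
    exact ⟨i + c, ⟨by omega, by omega⟩, (cj_cj g i c x).symm⟩
  · rintro ⟨i, ⟨h, h'⟩, rfl⟩
    refine ⟨_, ⟨i - c, ⟨by omega, by omega⟩, rfl⟩, ?_⟩
    rw [cj_cj, show i - c + c = i by omega]

theorem seg_le_centralizer {a b : ℕ} {v : G} (h : ∀ i, a ≤ i → i < b → Commute (cj g i x) v) :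
    seg g x a b ≤ Subgroup.centralizer {v} :=
  (Subgroup.closure_le _).mpr fun _ ⟨i, hi, e⟩ => e ▸ Subgroup.mem_centralizer_singleton_iff.mpr
    (h i (Set.mem_Ico.mp hi).1 (Set.mem_Ico.mp hi).2).eq

/-- The hypothesis on the orders of segments. -/
def SegCard (g x : G) (p t : ℕ) : Prop :=
  ∀ a l : ℕ, l ≤ t → Nat.card (seg g x a (a + l)) = p ^ l

theorem SegCard.card (hS : SegCard g x p t) {a b : ℕ} (h1 : a ≤ b) (h2 : b ≤ a + t) :
    Nat.card (seg g x a b) = p ^ (b - a) := by
  have := hS a (b - a) (by omega)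
  rwa [Nat.add_sub_cancel' h1] at this

variable (hp : p.Prime) (hS : SegCard g x p t)
include hp hS

theorem isPGroup_seg {a b : ℕ} (h1 : a ≤ b) (h2 : b ≤ a + t) : IsPGroup p (seg g x a b) :=
  IsPGroup.of_card (n := b - a) (hS.card h1 h2)

theorem not_mem_seg_right {a b : ℕ} (h1 : a < b) (h2 : b ≤ a + t) :
    cj g a x ∉ seg g x (a + 1) b := by
  intro h
  have hle : seg g x a b ≤ seg g x (a + 1) b := (Subgroup.closure_le _).mpr fun _ ⟨i, hi, e⟩ => by
    rw [Set.mem_Ico] at hi
    by_cases hia : i = a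
    · subst hia; exact e ▸ h
    · exact e ▸ mem_seg (by omega) hi.2
  have := Subgroup.card_le_of_le hle
  rw [hS.card h1.le h2, hS.card (by omega) (by omega)] at this
  exact absurd this (not_le.mpr (Nat.pow_lt_pow_right hp.one_lt (by omega)))

theorem le_normalizer_right {a b : ℕ} (h1 : a < b) (h2 : b ≤ a + t) :
    seg g x a b ≤ Subgroup.normalizer (seg g x (a + 1) b : Set G) := by
  have : Fact p.Prime := ⟨hp⟩
  refine SylowNumbers.Actions.le_normalizer_of_relIndex_eq (isPGroup_seg hp hS h1.le h2)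
    (seg_mono (by omega) le_rfl) ?_
  have h := card_mul_relIndex' (seg_mono (g := g) (x := x) (by omega : a ≤ a + 1) (le_refl b))
  rw [hS.card h1.le h2, hS.card (by omega) (by omega), show b - a = b - (a + 1) + 1 by omega,
    pow_succ] at h
  exact Nat.eq_of_mul_eq_mul_left (pow_pos hp.pos _) h

theorem le_normalizer_left {a b : ℕ} (h1 : a ≤ b) (h2 : b + 1 ≤ a + t) :
    seg g x a (b + 1) ≤ Subgroup.normalizer (seg g x a b : Set G) := by
  have : Fact p.Prime := ⟨hp⟩
  refine SylowNumbers.Actions.le_normalizer_of_relIndex_eq (isPGroup_seg hp hS (by omega) h2)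
    (seg_mono le_rfl (by omega)) ?_
  have h := card_mul_relIndex' (seg_mono (g := g) (x := x) (le_refl a) (by omega : b ≤ b + 1))
  rw [hS.card (by omega) h2, hS.card h1 (by omega), show b + 1 - a = b - a + 1 by omega,
    pow_succ] at h
  exact Nat.eq_of_mul_eq_mul_left (pow_pos hp.pos _) h

theorem seg_inf {a b d : ℕ} (h1 : a < b) (h2 : b ≤ d) (h3 : d ≤ a + t) :
    seg g x a b ⊓ seg g x (a + 1) d ≤ seg g x (a + 1) b := by
  intro e he
  by_contra hne
  have hle := eq_of_index_le hp (L := seg g x a b) (H := seg g x (a + 1) b) (k := b - (a + 1))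
    (by rw [hS.card h1.le (by omega), show b - a = b - (a + 1) + 1 by omega])
    (hS.card (by omega) (by omega)) (T := seg g x (a + 1) d) (seg_mono le_rfl h2) he.1 hne he.2
    (seg_mono (by omega) le_rfl)
  exact not_mem_seg_right hp hS (by omega : a < d) h3 (hle (mem_seg le_rfl h1))

theorem seg_inf_bot : ∀ k {a b d : ℕ}, b = a + k → b ≤ d → d ≤ a + t → ∀ e : G,
    e ∈ seg g x a b → e ∈ seg g x b d → e = 1
  | 0, a, b, d, hab, _, _, e, he, _ => by
    subst hab
    simpa [seg] using he
  | k + 1, a, b, d, hab, hbd, hd, e, he, he' =>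
    seg_inf_bot k (a := a + 1) (by omega) hbd (by omega) e
      (seg_inf hp hS (by omega) hbd hd ⟨he, seg_mono (by omega) le_rfl he'⟩) he'

theorem comm_mem {i j : ℕ} (h1 : i < j) (h2 : j + 1 ≤ i + t) :
    ⁅cj g i x, cj g j x⁆ ∈ seg g x (i + 1) j := by
  have hx : cj g i x ∈ seg g x i (j + 1) := mem_seg le_rfl (by omega)
  have hy : cj g j x ∈ seg g x i (j + 1) := mem_seg (by omega) (by omega)
  refine seg_inf hp hS h1 (by omega : j ≤ j + 1) h2 ⟨?_, ?_⟩
  · have hn := Subgroup.mem_normalizer_iff.mp (le_normalizer_left hp hS h1.le h2 hy)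
      (cj g i x)⁻¹
    rw [commutatorElement_def, mul_assoc, mul_assoc, ← mul_assoc (cj g j x)]
    exact Subgroup.mul_mem _ (mem_seg le_rfl h1)
      (hn.mp (Subgroup.inv_mem _ (mem_seg le_rfl h1)))
  · have hn := Subgroup.mem_normalizer_iff.mp (le_normalizer_right hp hS (by omega) h2 hx)
      (cj g j x)
    rw [commutatorElement_def]
    exact Subgroup.mul_mem _ (hn.mp (mem_seg (by omega) (by omega)))
      (Subgroup.inv_mem _ (mem_seg (by omega) (by omega)))

/-- The two numerical consequences. -/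
theorem bound (ht : 1 ≤ t) {n : ℕ} (hn : 1 ≤ n)
    (hcen : ∀ i, i < t → (∀ k, k < t + n → Commute (cj g i x) (cj g k x)) → False) :
    t ≤ 3 * n ∧ t ≠ 3 * n - 1 := by
  classical
  -- the first non-commuting distance
  have hex : ∃ d, 1 ≤ d ∧ (d = t ∨ ¬ Commute x (cj g d x)) := ⟨t, ht, Or.inl rfl⟩
  set m := Nat.find hex with hm
  obtain ⟨hm1, hmspec⟩ := Nat.find_spec hex
  have hmt : m ≤ t := Nat.find_le ⟨ht, Or.inl rfl⟩
  have hlt : ∀ d, d < m → Commute x (cj g d x) := by
    intro d hd
    rcases Nat.eq_zero_or_pos d with rfl | hd0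
    · rw [cj_apply]; simp
    · by_contra hc
      exact Nat.find_min hex hd ⟨hd0, Or.inr hc⟩
  have hclose : ∀ i j, i < j + m → j < i + m → Commute (cj g i x) (cj g j x) := by
    have key : ∀ i d, d < m → Commute (cj g i x) (cj g (i + d) x) := by
      intro i d hd
      have h := (hlt d hd).map (cj g i)
      rwa [cj_cj, add_comm d i] at h
    intro i j h1 h2
    rcases le_total i j with h | h
    · have := key i (j - i) (by omega)
      rwa [Nat.add_sub_cancel' h] at this
    · have := key j (i - j) (by omega)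
      rw [Nat.add_sub_cancel' h] at this
      exact this.symm
  -- the centre of the big group
  have hA : 2 * m ≤ t + n := by
    by_contra h
    exact hcen (m - 1) (by omega) fun k hk => hclose _ _ (by omega) (by omega)
  suffices hB : 2 * t ≤ 3 * m by omega
  by_cases hmeq : m = t
  · omega
  have hne : ¬ Commute x (cj g m x) := hmspec.resolve_left hmeq
  have hm2 : 2 ≤ m := by
    by_contra h
    have hc := comm_mem hp hS (i := 0) (j := m) (by omega) (by omega)
    rw [show m = 0 + 1 by omega] at hc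
    apply hne
    have h1 : ⁅cj g 0 x, cj g (0 + 1) x⁆ = 1 := by simpa [seg] using hc
    have h2 := commutatorElement_eq_one_iff_commute.mp h1
    rwa [show cj g 0 x = x by simp [cj_apply], ← show m = 0 + 1 by omega] at h2
  set c := ⁅cj g 0 x, cj g m x⁆ with hcdef
  have hc1 : c ≠ 1 := by
    rw [hcdef, Ne, commutatorElement_eq_one_iff_commute, show cj g 0 x = x by simp [cj_apply]]
    exact hne
  have hcm : c ∈ seg g x 1 m := comm_mem hp hS (by omega) (by omega)
  have hnc : ∀ i, ¬ Commute (cj g i x) (cj g (i + m) x) := by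
    intro i h
    refine hne (cj_injective g i ?_)
    rw [map_mul, map_mul, cj_cj, add_comm m i]
    exact h.eq
  -- first support
  have hexA : ∃ d, c ∉ seg g x (d + 1) m := ⟨m, fun h => hc1 (by
    have e : Set.Ico (m + 1) m = ∅ := Set.Ico_eq_empty (by omega)
    rw [seg, e, Set.image_empty, Subgroup.closure_empty] at h
    exact Subgroup.mem_bot.mp h)⟩
  set a := Nat.find hexA with ha
  have ha1 : 1 ≤ a := by
    rcases Nat.eq_zero_or_pos a with h | h
    · exact absurd hcm (by simpa [← ha, h] using Nat.find_spec hexA)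
    · exact h
  have hca : c ∈ seg g x a m := by
    have := Nat.find_min hexA (show a - 1 < a by omega)
    rw [show a - 1 + 1 = a by omega, not_not] at this
    exact this
  have ham : a < m := by
    by_contra h
    apply hc1
    rw [seg, Set.Ico_eq_empty (by omega), Set.image_empty, Subgroup.closure_empty] at hca
    exact Subgroup.mem_bot.mp hca
  -- last support
  have hexB : ∃ d, c ∈ seg g x 1 (d + 1) := ⟨m, seg_mono le_rfl (by omega) hcm⟩
  set b := Nat.find hexB with hb
  have hcb : c ∈ seg g x 1 (b + 1) := Nat.find_spec hexB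
  have hb1 : 1 ≤ b := by
    by_contra h
    apply hc1
    rw [seg, Set.Ico_eq_empty (by omega), Set.image_empty, Subgroup.closure_empty] at hcb
    exact Subgroup.mem_bot.mp hcb
  have hcb' : c ∉ seg g x 1 b := by
    have := Nat.find_min hexB (show b - 1 < b by omega)
    rwa [show b - 1 + 1 = b by omega] at this
  have hbm : b < m := by
    have : b ≤ m - 1 := Nat.find_le (by rw [show m - 1 + 1 = m by omega]; exact hcm)
    omega
  have hab : a ≤ b := by
    by_contra h
    exact hc1 (seg_inf_bot hp hS (a - 1) (a := 1) (b := a) (d := m) (by omega) (by omega) (by omega)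
      c (seg_mono le_rfl (by omega) hcb) hca)
  -- upper end
  have hup : ∀ k, 1 ≤ k → k < 2 * m → k < t → Commute (cj g k x) c := by
    intro k hk1 hk2 hkt
    have he : ⁅cj g k x, cj g 0 x⁆ ∈ seg g x 1 k := by
      rw [← commutatorElement_inv]
      exact Subgroup.inv_mem _ (comm_mem hp hS hk1 (by omega))
    have hcen' : seg g x 1 k ≤ Subgroup.centralizer {cj g m x} :=
      seg_le_centralizer fun i h1 h2 => hclose _ _ (by omega) (by omega)
    refine commute_comm (hclose _ _ (by omega) (by omega))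
      (Subgroup.mem_centralizer_singleton_iff.mp (hcen' he))
      (Subgroup.mem_centralizer_singleton_iff.mp (hcen' ?_))
    have h' : cj g 0 x ∈ Subgroup.normalizer (seg g x 1 k : Set G) :=
      le_normalizer_right hp hS hk1 (by omega) (mem_seg le_rfl hk1)
    exact (Subgroup.mem_normalizer_iff''.mp h' _).mp he
  have hlo : t ≤ a + m := by
    by_contra h
    have h1 : seg g x (a + 1) m ≤ Subgroup.centralizer {cj g (a + m) x} :=
      seg_le_centralizer fun i h1 h2 => hclose _ _ (by omega) (by omega)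
    have h2 := eq_of_index_le hp (L := seg g x a m) (H := seg g x (a + 1) m) (k := m - (a + 1))
      (by rw [hS.card ham.le (by omega), show m - a = m - (a + 1) + 1 by omega])
      (hS.card (by omega) (by omega)) (T := Subgroup.centralizer {cj g (a + m) x}) h1 hca
      (Nat.find_spec hexA)
      (Subgroup.mem_centralizer_singleton_iff.mpr (hup _ (by omega) (by omega) (by omega)).symm.eq)
      (seg_mono (by omega) le_rfl)
    exact hnc a (Subgroup.mem_centralizer_singleton_iff.mp (h2 (mem_seg le_rfl ham)))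
  -- lower end, after a shift
  suffices hhi : b + (t - 1 - m) < m by omega
  by_contra h
  set s := t - 1 - m with hs
  set k := b + s - m with hk
  set c' := ⁅cj g (s + m) x, cj g s x⁆ with hc'
  have hc'eq : (cj g s c)⁻¹ = c' := by
    rw [hcdef, map_commutatorElement, cj_cj, cj_cj, zero_add, commutatorElement_inv, add_comm m s]
  have hmemb : cj g s c ∈ seg g x (1 + s) (b + 1 + s) := by
    rw [← map_seg]; exact Subgroup.mem_map_of_mem _ hcb
  have hnmemb : cj g s c ∉ seg g x (1 + s) (b + s) := by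
    rw [← map_seg]
    exact fun h' => hcb' ((Subgroup.mem_map_iff_mem (cj_injective g s)).mp h')
  have hcomm : Commute (cj g k x) c' := by
    have he : ⁅cj g k x, cj g (s + m) x⁆ ∈ seg g x (k + 1) (s + m) :=
      comm_mem hp hS (by omega) (by omega)
    have hcen' : seg g x (k + 1) (s + m) ≤ Subgroup.centralizer {cj g s x} :=
      seg_le_centralizer fun i h1 h2 => hclose _ _ (by omega) (by omega)
    refine commute_comm (hclose _ _ (by omega) (by omega))
      (Subgroup.mem_centralizer_singleton_iff.mp (hcen' he))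
      (Subgroup.mem_centralizer_singleton_iff.mp (hcen' ?_))
    have h' : cj g (s + m) x ∈ Subgroup.normalizer (seg g x (k + 1) (s + m) : Set G) :=
      le_normalizer_left hp hS (by omega) (by omega) (mem_seg (by omega) (by omega))
    exact (Subgroup.mem_normalizer_iff''.mp h' _).mp he
  rw [← hc'eq] at hcomm
  have hcomm' : Commute (cj g s c) (cj g k x) := by
    have := hcomm.inv_right.symm
    rwa [inv_inv] at this
  have h1 : seg g x (1 + s) (b + s) ≤ Subgroup.centralizer {cj g k x} :=
    seg_le_centralizer fun i h1 h2 => hclose _ _ (by omega) (by omega)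
  have h2 := eq_of_index_le hp (L := seg g x (1 + s) (b + 1 + s)) (H := seg g x (1 + s) (b + s))
    (k := b - 1)
    (by rw [hS.card (by omega) (by omega), show b + 1 + s - (1 + s) = b - 1 + 1 by omega])
    (by rw [hS.card (by omega) (by omega), show b + s - (1 + s) = b - 1 by omega])
    (T := Subgroup.centralizer {cj g k x}) h1 hmemb hnmemb
    (Subgroup.mem_centralizer_singleton_iff.mpr hcomm'.eq) (seg_mono le_rfl (by omega))
  have h3 : Commute (cj g (b + s) x) (cj g k x) :=
    Subgroup.mem_centralizer_singleton_iff.mp (h2 (mem_seg (by omega) (by omega)))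
  refine hnc k ?_
  rw [show k + m = b + s by omega]
  exact h3.symm

end Bound

/-- Under the hypotheses, `P` is a `p`-group. -/
theorem isPGroup_of_hyp (P : Subgroup G) (g : G) {p : ℕ} (hp : p.Prime)
    (hN : ((P ⊓ MulAut.conj g⁻¹ • P).subgroupOf (MulAut.conj g⁻¹ • P)).Normal)
    (hidx : (P ⊓ MulAut.conj g⁻¹ • P).relIndex (MulAut.conj g⁻¹ • P) = p)
    (h1 : ∀ Q : Subgroup G, Q ≤ P → (Q.subgroupOf P).Normal → MulAut.conj g • Q = Q → Q = ⊥) :
    IsPGroup p P := by
  have : Fact p.Prime := ⟨hp⟩
  set R := Subgroup.closure {y : G | y ∈ P ∧ (orderOf y).Coprime p} with hR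
  have hRP : R ≤ P := (Subgroup.closure_le _).mpr fun y hy => hy.1
  have hRn : (R.subgroupOf P).Normal := by
    refine (Subgroup.normal_subgroupOf_iff_le_normalizer hRP).mpr fun a ha => ?_
    have hconj : ∀ b ∈ P, ∀ y ∈ R, b * y * b⁻¹ ∈ R := by
      intro b hb y hy
      induction hy using Subgroup.closure_induction with
      | mem z hz =>
        exact Subgroup.subset_closure ⟨P.mul_mem (P.mul_mem hb hz.1) (P.inv_mem hb),
          by rw [show orderOf (b * z * b⁻¹) = orderOf z from (MulAut.conj b).orderOf_eq z]; exact hz.2⟩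
      | one => simp
      | mul y z _ _ ihy ihz => simpa [mul_assoc] using R.mul_mem ihy ihz
      | inv y _ ih => simpa [mul_assoc] using R.inv_mem ih
    rw [Subgroup.mem_normalizer_iff]
    refine fun y => ⟨hconj a ha y, fun h => ?_⟩
    have h' := hconj a⁻¹ (P.inv_mem ha) _ h
    simpa [mul_assoc] using h'
  have hle : MulAut.conj g⁻¹ • R ≤ R := by
    rw [show MulAut.conj g⁻¹ • R = R.map (MulAut.conj g⁻¹).toMonoidHom from rfl, Subgroup.map_le_iff_le_comap]
    refine (Subgroup.closure_le _).mpr fun y hy => ?_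
    have hy' : (MulAut.conj g⁻¹) y ∈ MulAut.conj g⁻¹ • P :=
      Subgroup.smul_mem_pointwise_smul y _ _ hy.1
    have ho : (orderOf ((MulAut.conj g⁻¹) y)).Coprime p := by
      rw [(MulAut.conj g⁻¹).orderOf_eq]; exact hy.2
    set A := (P ⊓ MulAut.conj g⁻¹ • P).subgroupOf (MulAut.conj g⁻¹ • P) with hA
    have h2 : orderOf (QuotientGroup.mk' A ⟨_, hy'⟩) = 1 :=
      Nat.eq_one_of_dvd_coprimes ho
        ((orderOf_map_dvd (QuotientGroup.mk' A) ⟨_, hy'⟩).trans (by rw [Subgroup.orderOf_mk]))
        (by rw [← hidx]; exact orderOf_dvd_natCard _)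
    rw [orderOf_eq_one_iff, QuotientGroup.mk'_apply, QuotientGroup.eq_one_iff, hA,
      Subgroup.mem_subgroupOf] at h2
    exact Subgroup.subset_closure ⟨h2.1, ho⟩
  have heq : MulAut.conj g⁻¹ • R = R :=
    Subgroup.eq_of_le_of_card_ge hle
      (Nat.card_congr (Subgroup.equivSMul (MulAut.conj g⁻¹) R).toEquiv).le
  have hbot : R = ⊥ := h1 R hRP hRn (by
    have h := congrArg (fun Q => MulAut.conj g • Q) heq
    simp only [← mul_smul, ← map_mul, mul_inv_cancel, map_one, one_smul] at h
    exact h.symm)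
  rw [IsPGroup.iff_orderOf]
  rintro ⟨y, hy⟩
  obtain ⟨u, v, huv, -, hu, hv, -, hvz⟩ := Brauer.Induction.exists_pParts p hp y
  have hv1 : v ∈ R := Subgroup.subset_closure
    ⟨Subgroup.zpowers_le.mpr hy hvz, (hp.coprime_iff_not_dvd.mpr hv).symm⟩
  rw [hbot, Subgroup.mem_bot] at hv1
  rw [hv1, mul_one] at huv
  rw [Subgroup.orderOf_mk, ← huv]
  exact hu


/-- Glauberman's bound. -/
theorem exists_bound (P : Subgroup G) (g : G) {p : ℕ} (hp : p.Prime)
    (hN : ((P ⊓ MulAut.conj g⁻¹ • P).subgroupOf (MulAut.conj g⁻¹ • P)).Normal)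
    (hidx : (P ⊓ MulAut.conj g⁻¹ • P).relIndex (MulAut.conj g⁻¹ • P) = p)
    {n : ℕ} (hn : 1 ≤ n) (K : Subgroup G)
    (hK : K = ⨆ i ∈ Finset.range (n + 1), MulAut.conj (g ^ i)⁻¹ • P)
    (h1 : ∀ Q : Subgroup G, Q ≤ P → (Q.subgroupOf P).Normal → MulAut.conj g • Q = Q → Q = ⊥)
    (h2 : P ⊓ (Subgroup.center K).map K.subtype = ⊥) :
    ∃ t : ℕ, Nat.card P = p ^ t ∧ 1 ≤ t ∧ t ≤ 3 * n ∧ t ≠ 3 * n - 1 := by
  have hP := isPGroup_of_hyp P g hp hN hidx h1
  have e : ∀ (i : ℕ) (H : Subgroup G), MulAut.conj (g ^ i)⁻¹ • H = H.map (cj g i) := fun _ _ => rfl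
  have e1 : MulAut.conj g⁻¹ • P = P.map (cj g 1) := by rw [← e, pow_one]
  rw [e1] at hidx
  obtain ⟨t, x, ht, hPx, hS⟩ := exists_normal_form hp hP hidx fun Q hQ hQn hQf => h1 Q hQ hQn (by
    rw [← e, pow_one] at hQf
    have h3 := congrArg (fun R => MulAut.conj g • R) hQf
    simp only [← mul_smul, ← map_mul, mul_inv_cancel, map_one, one_smul] at h3
    exact h3.symm)
  have hS' : SegCard g x p t := hS
  have hcardP : Nat.card P = p ^ t := by
    have := hS 0 t le_rfl
    rw [zero_add, ← hPx] at this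
    exact this
  refine ⟨t, hcardP, ht, bound hp hS' ht hn fun i hi hcomm => ?_⟩
  have hiP : cj g i x ∈ P := by rw [hPx]; exact mem_seg (Nat.zero_le i) hi
  have hKle : K ≤ Subgroup.centralizer {cj g i x} := by
    rw [hK]
    refine iSup₂_le fun j hj => ?_
    rw [Finset.mem_range] at hj
    rw [e, hPx]
    show (seg g x 0 t).map (cj g j) ≤ _
    rw [map_seg]
    exact seg_le_centralizer fun k h3 h4 => (hcomm k (by omega)).symm
  have hiK : cj g i x ∈ K := by
    rw [hK]
    refine Subgroup.mem_iSup_of_mem 0 (Subgroup.mem_iSup_of_mem (Finset.mem_range.mpr (by omega)) ?_)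
    rw [e]
    exact ⟨_, hiP, by rw [cj_apply]; simp⟩
  have h4 : cj g i x ∈ P ⊓ (Subgroup.center K).map K.subtype :=
    ⟨hiP, ⟨⟨_, hiK⟩, Subgroup.mem_center_iff.mpr fun b => Subtype.ext
      (Subgroup.mem_centralizer_singleton_iff.mp (hKle b.2)), rfl⟩⟩
  rw [h2, Subgroup.mem_bot, map_eq_one_iff _ (cj_injective g i)] at h4
  subst h4
  have h5 := hS 0 1 ht
  have e' : seg g (1 : G) 0 1 = ⊥ := by
    rw [seg, Subgroup.closure_eq_bot_iff]
    rintro y ⟨i, -, rfl⟩
    simp
  have h6 := h5
  rw [show (0 : ℕ) + 1 = 1 from rfl, pow_one] at h6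
  change Nat.card (seg g (1 : G) 0 1) = p at h6
  rw [e', Subgroup.card_bot] at h6
  exact hp.ne_one h6.symm

end Cfsg.Agent.Lib.PGroups.IsomorphicSubgroups
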